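import Cfsg.Agent.Lib.SmallSimple.Degree6000.Sylow
import Mathlib

/-!
Normal Sylow subgroups in groups of the small orders.
-/

set_option autoImplicit false
set_option linter.style.haveILetI false

namespace CfsgLib.SmallSimple.Degree6000

open Subgroup

universe u

theorem card_eq_index_mul {G : Type u} [Group G] (M : Subgroup G) [M.Normal] :
    Nat.card G = Nat.card (G ⧸ M) * Nat.card M := Subgroup.card_eq_card_quotient_mul_card_subgroup M

/-- Orders without a non-abelian simple group among their divisors are solvable. -/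
theorem solvable_of_orders (n : ℕ)
    (hord : ∀ (X : Type u) [Group X] [Finite X] [IsSimpleGroup X], ¬ IsMulCommutative X → ¬ Nat.card X ∣ n) :
    ∀ (k : ℕ) (G : Type u) [Group G] [Finite G], Nat.card G = k → k ∣ n → Group.IsSolvable G := by
  intro k
  induction k using Nat.strong_induction_on with
  | _ k ih =>
    intro G _ _ hk hkn
    rcases subsingleton_or_nontrivial G with hs | hnt
    · infer_instance
    obtain ⟨M, hMn, hMt, hsimp⟩ := exists_maximal_normal (G := G)
    have hmul := card_eq_index_mul M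
    have hMlt : Nat.card M < k := by
      rw [← hk]
      exact lt_of_le_of_ne (card_le_card_group M) fun h => hMt (eq_top_of_card_eq M h)
    have hd : Nat.card M ∣ n := (Dvd.intro_left _ hmul.symm : Nat.card M ∣ Nat.card G).trans (hk ▸ hkn)
    haveI := ih _ hMlt M rfl hd
    haveI : Group.IsSolvable (G ⧸ M) := by
      by_cases hc : IsMulCommutative (G ⧸ M)
      · exact Group.isSolvable_of_comm fun a b => mul_comm' a b
      · exact absurd ((Dvd.intro _ hmul.symm : Nat.card (G ⧸ M) ∣ Nat.card G).trans (hk ▸ hkn))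
          (hord (G ⧸ M) hc)
    exact Group.isSolvable_of_ker_le_range (G' := M) (G'' := G ⧸ M) M.subtype (QuotientGroup.mk' M) (by
      rw [QuotientGroup.ker_mk', Subgroup.range_subtype])

/-- A simple commutative quotient has prime order. -/
theorem prime_card_quotient {G : Type u} [Group G] [Finite G] (M : Subgroup G) [M.Normal]
    [IsSimpleGroup (G ⧸ M)] (hc : IsMulCommutative (G ⧸ M)) : (Nat.card (G ⧸ M)).Prime := by
  letI : CommGroup (G ⧸ M) := { (inferInstance : Group (G ⧸ M)) with mul_comm := fun a b => mul_comm' a b }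
  exact IsSimpleGroup.prime_card

/-- No non-abelian simple group of order a proper divisor containing `p`: normal Sylow `p`-subgroup. -/
theorem normal_prime_of_orders {p n : ℕ} [hp : Fact p.Prime] (hn : 0 < n) (hpn : ¬ p ^ 2 ∣ n)
    (hok : okPowers p (n / p) 0 = true)
    (hord : ∀ (X : Type u) [Group X] [Finite X] [IsSimpleGroup X], ¬ IsMulCommutative X →
      Nat.card X ∣ n → p ∣ Nat.card X → Nat.card X = n) :
    ∀ (k : ℕ) (G : Type u) [Group G] [Finite G], Nat.card G = k → k ∣ n → p ∣ k → (k = n → ¬ IsSimpleGroup G) →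
      ∃ P : Subgroup G, P.Normal ∧ Nat.card P = p := by
  intro k
  induction k using Nat.strong_induction_on with
  | _ k ih =>
    intro G _ _ hk hkn hpk hns
    haveI : Nontrivial G := Finite.one_lt_card_iff_nontrivial.1 (by
      rw [hk]; exact lt_of_lt_of_le hp.out.one_lt (Nat.le_of_dvd (hk ▸ Nat.card_pos) hpk))
    obtain ⟨M, hMn, hMt, hsimp⟩ := exists_maximal_normal (G := G)
    have hmul := card_eq_index_mul M
    have hpG : ¬ p ^ 2 ∣ Nat.card G := fun h => hpn (h.trans (hk ▸ hkn))
    have hMlt : Nat.card M < k := by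
      rw [← hk]
      exact lt_of_le_of_ne (card_le_card_group M) fun h => hMt (eq_top_of_card_eq M h)
    have hd : Nat.card M ∣ n := (Dvd.intro_left _ hmul.symm : Nat.card M ∣ Nat.card G).trans (hk ▸ hkn)
    by_cases hpM : p ∣ Nat.card M
    · obtain ⟨Q, hQn, hQ⟩ := ih _ hMlt M rfl hd hpM fun e =>
        absurd (Nat.le_of_dvd hn hkn) (by omega)
      exact normal_prime_of_normal hpG M Q hQ
    have hpq : p ∣ Nat.card (G ⧸ M) := (hp.out.dvd_mul.1 (hmul ▸ hk ▸ hpk)).resolve_right hpM
    by_cases hc : IsMulCommutative (G ⧸ M)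
    · have hq := (Nat.prime_dvd_prime_iff_eq hp.out (prime_card_quotient M hc)).1 hpq
      refine normal_of_index M (hq ▸ rfl) hpM fun s i hs hi hsd => ?_
      refine not_mod_eq_one hok ?_ hs hi (hsd.trans ?_) (pow_pos hs.pos i).ne'
      · exact Nat.div_pos (Nat.le_of_dvd hn (hpk.trans hkn)) hp.out.pos
      · refine (Nat.dvd_div_iff_mul_dvd (hpk.trans hkn)).2 ?_
        rw [hq, ← hmul, hk]; exact hkn
    · exfalso
      have h1 := hord (G ⧸ M) hc ((Dvd.intro _ hmul.symm : Nat.card (G ⧸ M) ∣ Nat.card G).trans (hk ▸ hkn)) hpq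
      have hkn' := Nat.le_of_dvd hn hkn
      have hM1 : Nat.card M = 1 := by
        have : 0 < Nat.card M := Nat.card_pos
        have h2 : Nat.card (G ⧸ M) * Nat.card M ≤ n * 1 := by rw [← hmul, hk, mul_one]; exact hkn'
        rw [h1] at h2
        have := Nat.le_of_mul_le_mul_left h2 hn
        omega
      refine hns (by rw [← hk, hmul, h1, hM1, mul_one]) ?_
      have hbot := Subgroup.eq_bot_of_card_eq M hM1
      subst hbot
      exact (QuotientGroup.quotientBot (G := G)).symm.isSimpleGroup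

/-- The exceptional Sylow subgroup is normal. -/
theorem normal_of_fixed_free {G : Type u} [Group G] [Finite G] {p r a : ℕ} [hp : Fact p.Prime]
    (hr : r.Prime) (hrp : r ≠ p) (ha : 0 < a) (M : Subgroup G) [M.Normal] (hidx : M.index = p)
    (hfac : (Nat.card M).factorization r = a) {x : G} (hx : orderOf x = p) (hpM : ¬ p ∣ Nat.card M)
    (S : Subgroup G) (hSM : S ≤ M) (hS : Nat.card S = r ^ a) (hxS : x ∈ normalizer (S : Set G))
    (hfree : Nat.card (S ⊓ centralizer ({x} : Set G) : Subgroup G) = 1)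
    (hCs : ∀ s, s.Prime → s ≠ r → s ^ (Nat.card M).factorization s ∣
      Nat.card (M ⊓ centralizer ({x} : Set G) : Subgroup G))
    (hsub : ∀ i, i < a → r ^ i % p = 1 → i = 0) :
    S.Normal ∧ ∀ u ∈ S, ∀ v ∈ S, u * v = v * u := by
  set C := M ⊓ centralizer ({x} : Set G) with hC
  have hfree' : ∀ u ∈ S, u * x = x * u → u = 1 := fun u hu huc => by
    have h0 : (S ⊓ centralizer ({x} : Set G) : Subgroup G) = ⊥ := Subgroup.eq_bot_of_card_eq _ hfree
    exact mem_bot.1 (h0 ▸ mem_inf.2 ⟨hu, mem_centralizer_singleton_iff.2 huc⟩)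
  have hxMn : x ∈ normalizer (M : Set G) := (normalizer_eq_top_iff.2 (inferInstance : M.Normal)) ▸ mem_top x
  -- `M = S C`
  have hbij : ∀ n ∈ M, ∃ s ∈ S, ∃ c ∈ C, n = s * c := by
    let f : S × C → M := fun z => ⟨z.1 * z.2, mul_mem (hSM z.1.2) (mem_inf.1 z.2.2).1⟩
    have hinj : Function.Injective f := fun z w hzw => by
      have h1 : (z.1 : G) * z.2 = w.1 * w.2 := congrArg Subtype.val hzw
      have h2 : (w.1 : G)⁻¹ * z.1 = w.2 * (z.2 : G)⁻¹ :=
        calc (w.1 : G)⁻¹ * z.1 = (w.1 : G)⁻¹ * (z.1 * z.2) * (z.2 : G)⁻¹ := by group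
          _ = _ := by rw [h1]; group
      have h3 : (w.1 : G)⁻¹ * z.1 = 1 := by
        refine hfree' _ (mul_mem (inv_mem w.1.2) z.1.2) ?_
        rw [h2]
        exact mem_centralizer_singleton_iff.1 (mul_mem (mem_inf.1 w.2.2).2 (inv_mem (mem_inf.1 z.2.2).2))
      have h4 : (z.1 : G) = w.1 := (inv_mul_eq_one.1 h3).symm
      rw [h4] at h1
      exact Prod.ext (Subtype.ext h4) (Subtype.ext (mul_left_cancel h1))
    have hle := Nat.card_le_card_of_injective f hinj
    have hge : Nat.card M ≤ Nat.card (S × C) := by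
      rw [Nat.card_prod]
      refine Nat.le_of_dvd (Nat.mul_pos Nat.card_pos Nat.card_pos) ?_
      rw [← Nat.factorization_le_iff_dvd Nat.card_pos.ne' (Nat.mul_pos Nat.card_pos Nat.card_pos).ne',
        Finsupp.le_def]
      intro s
      by_cases hs : s.Prime
      · refine (hs.pow_dvd_iff_le_factorization (Nat.mul_pos Nat.card_pos Nat.card_pos).ne').1 ?_
        by_cases hsr : s = r
        · rw [hsr, hfac, ← hS]; exact dvd_mul_right _ _
        · exact dvd_mul_of_dvd_right (hCs s hs hsr) _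
      · rw [Nat.factorization_eq_zero_of_not_prime _ hs]; exact Nat.zero_le _
    have hsurj := (Nat.bijective_iff_injective_and_card f).2 ⟨hinj, le_antisymm hle hge⟩
    intro n hn
    obtain ⟨z, hz⟩ := hsurj.2 ⟨n, hn⟩
    exact ⟨z.1, z.1.2, z.2, z.2.2, (congrArg Subtype.val hz).symm⟩
  -- `S` is the set of commutators with `x`
  have hS_iff : ∀ y : G, y ∈ S ↔ ∃ n ∈ M, y = n * x * n⁻¹ * x⁻¹ := by
    have hto : ∀ s ∈ S, s * x * s⁻¹ * x⁻¹ ∈ S := fun s hs => by
      rw [show s * x * s⁻¹ * x⁻¹ = s * (x * s⁻¹ * x⁻¹) by group]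
      exact mul_mem hs ((mem_normalizer_iff.1 hxS _).1 (inv_mem hs))
    intro y
    constructor
    · intro hy
      let g : S → S := fun s => ⟨_, hto s s.2⟩
      have hg : Function.Injective g := fun u v huv => by
        have h1 : (u : G) * x * (u : G)⁻¹ * x⁻¹ = v * x * (v : G)⁻¹ * x⁻¹ := congrArg Subtype.val huv
        have h2 := hfree' _ (mul_mem (inv_mem v.2) u.2) (by
          calc (v : G)⁻¹ * u * x = (v : G)⁻¹ * (u * x * (u : G)⁻¹ * x⁻¹) * x * u := by group
            _ = (v : G)⁻¹ * (v * x * (v : G)⁻¹ * x⁻¹) * x * u := by rw [h1]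
            _ = x * ((v : G)⁻¹ * u) := by group)
        exact Subtype.ext (inv_mul_eq_one.1 h2).symm
      obtain ⟨s, hs⟩ := (Finite.injective_iff_surjective.1 hg) ⟨y, hy⟩
      exact ⟨s, hSM s.2, (congrArg Subtype.val hs).symm⟩
    · rintro ⟨n, hn, rfl⟩
      obtain ⟨s, hs, c, hc, rfl⟩ := hbij n hn
      have hcx := mem_centralizer_singleton_iff.1 (mem_inf.1 hc).2
      rw [show s * c * x * (s * c)⁻¹ * x⁻¹ = s * (c * x * c⁻¹) * s⁻¹ * x⁻¹ by group, hcx,
        show s * (x * c * c⁻¹) * s⁻¹ * x⁻¹ = s * x * s⁻¹ * x⁻¹ by group]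
      exact hto s hs
  refine ⟨normalizer_eq_top_iff.1 (eq_top_of_card_eq _ (Nat.dvd_antisymm (card_subgroup_dvd_card _) ?_)), ?_⟩
  · have hMle : M ≤ normalizer (S : Set G) := fun g hg => mem_normalizer_fintype fun y hy => by
      obtain ⟨n, hn, rfl⟩ := (hS_iff y).1 hy
      have h1 := (hS_iff _).2 ⟨g * n, mul_mem hg hn, rfl⟩
      have h2 := (hS_iff _).2 ⟨g, hg, rfl⟩
      show g * (n * x * n⁻¹ * x⁻¹) * g⁻¹ ∈ S
      rw [show g * (n * x * n⁻¹ * x⁻¹) * g⁻¹ = g * n * x * (g * n)⁻¹ * x⁻¹ * (g * x * g⁻¹ * x⁻¹)⁻¹ by group]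
      exact mul_mem h1 (inv_mem h2)
    rw [← M.index_mul_card, hidx, ← hx, ← Nat.card_zpowers]
    refine Nat.Coprime.mul_dvd_of_dvd_of_dvd ?_ (card_dvd_of_le (zpowers_le.2 hxS)) (card_dvd_of_le hMle)
    rw [Nat.card_zpowers, hx]
    exact hp.out.coprime_iff_not_dvd.2 hpM
  · haveI : Fact r.Prime := ⟨hr⟩
    set D := ⁅S, S⁆ with hD
    have hDS : D ≤ S := commutator_le_self S
    have hDn : x ∈ normalizer (D : Set G) := by
      refine mem_normalizer_fintype fun y hy => ?_
      have h : Subgroup.map (MulAut.conj x).toMonoidHom D ≤ D := by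
        rw [hD, map_commutator]
        refine commutator_mono ?_ ?_ <;>
        · rintro _ ⟨z, hz, rfl⟩
          exact (mem_normalizer_iff.1 hxS z).1 hz
      exact h ⟨y, hy, rfl⟩
    obtain ⟨j, hj, hDc⟩ := (Nat.dvd_prime_pow hr).1 (hS ▸ card_dvd_of_le hDS)
    obtain ⟨i, hi, hmod, hfix⟩ := exists_fixed_index hx hr hrp D hDc hDn
    have hfix1 : r ^ (j - i) = 1 := by
      have := card_dvd_of_le (inf_le_inf_right (centralizer ({x} : Set G)) hDS)
      rw [hfix, hfree] at this
      exact Nat.dvd_one.1 this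
    obtain rfl : i = j := by
      rcases Nat.pow_eq_one.1 hfix1 with h | h
      · exact absurd h hr.one_lt.ne'
      · omega
    have hja : i ≠ a := by
      intro e
      have hDeq : D = S := eq_of_le_of_card_ge hDS (by rw [hDc, hS, e])
      haveI hnil : Group.IsNilpotent S := (IsPGroup.of_card hS).isNilpotent
      have h1 : commutator S = ⊤ := by
        refine map_injective S.subtype_injective ?_
        rw [map_subtype_commutator, ← MonoidHom.range_eq_map, range_subtype]
        exact hDeq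
      haveI : Nontrivial S := Finite.one_lt_card_iff_nontrivial.1 (by rw [hS]; exact Nat.one_lt_pow ha.ne' hr.one_lt)
      exact (Group.IsSolvable.commutator_lt_top_of_nontrivial S).ne h1
    obtain rfl := hsub i (lt_of_le_of_ne hj hja) hmod
    rw [pow_zero] at hDc
    intro u hu v hv
    have hb := Subgroup.eq_bot_of_card_eq D hDc
    have := commutator_mem_commutator hu hv
    rw [← hD, hb, mem_bot, commutatorElement_eq_one_iff_mul_comm] at this
    exact this

/-- The solvable case: a normal Sylow `p`-subgroup or a normal abelian Sylow `r`-subgroup. -/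
theorem solvable_cases {p r a n : ℕ} [hp : Fact p.Prime] (hn : 0 < n) (hpn : ¬ p ^ 2 ∣ n) (hr : r.Prime)
    (hrp : r ≠ p) (ha : 0 < a) (hrn : ¬ r ^ (a + 1) ∣ n) (hok : okPowers p (n / p) (r ^ a) = true) :
    ∀ (k : ℕ) (G : Type u) [Group G] [Finite G], Nat.card G = k → k ∣ n → p ∣ k → Group.IsSolvable G →
      (∃ P : Subgroup G, P.Normal ∧ Nat.card P = p) ∨
      ∃ S : Subgroup G, S.Normal ∧ Nat.card S = r ^ a ∧ ∀ u ∈ S, ∀ v ∈ S, u * v = v * u := by
  intro k
  induction k using Nat.strong_induction_on with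
  | _ k ih =>
    intro G _ _ hk hkn hpk hsol
    haveI : Fact r.Prime := ⟨hr⟩
    haveI : Nontrivial G := Finite.one_lt_card_iff_nontrivial.1 (by
      rw [hk]; exact lt_of_lt_of_le hp.out.one_lt (Nat.le_of_dvd (hk ▸ Nat.card_pos) hpk))
    obtain ⟨M, hMn, hMt, hsimp⟩ := exists_maximal_normal (G := G)
    have hmul := card_eq_index_mul M
    have hkn' : Nat.card G ∣ n := hk ▸ hkn
    have hMlt : Nat.card M < k := by
      rw [← hk]
      exact lt_of_le_of_ne (card_le_card_group M) fun h => hMt (eq_top_of_card_eq M h)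
    have hd : Nat.card M ∣ n := (Dvd.intro_left _ hmul.symm : Nat.card M ∣ Nat.card G).trans hkn'
    have hc : IsMulCommutative (G ⧸ M) :=
      ⟨⟨IsSimpleGroup.comm_iff_isSolvable.2 inferInstance⟩⟩
    by_cases hpM : p ∣ Nat.card M
    · rcases ih _ hMlt M rfl hd hpM inferInstance with ⟨Q, hQn, hQ⟩ | ⟨T, hTn, hT, hTc⟩
      · exact Or.inl (normal_prime_of_normal (fun h => hpn (h.trans hkn')) M Q hQ)
      · right
        have hpr : ¬ r ^ (a + 1) ∣ Nat.card M := fun h => hrn (h.trans hd)
        let Ts : Sylow r M := Sylow.ofCard T (by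
          rw [hT]
          congr 1
          refine le_antisymm ?_ ?_
          · exact (hr.pow_dvd_iff_le_factorization Nat.card_pos.ne').1 (hT ▸ card_subgroup_dvd_card T)
          · by_contra h
            exact hpr ((hr.pow_dvd_iff_le_factorization Nat.card_pos.ne').2 (by omega)))
        haveI : (Ts : Subgroup M).Normal := hTn
        haveI : T.Characteristic := Ts.characteristic_of_normal hTn
        refine ⟨T.map M.subtype, inferInstance, by rw [card_map_of_injective M.subtype_injective, hT], ?_⟩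
        rintro _ ⟨u, hu, rfl⟩ _ ⟨v, hv, rfl⟩
        rw [← map_mul, ← map_mul, hTc u hu v hv]
    have hpq : p ∣ Nat.card (G ⧸ M) := (hp.out.dvd_mul.1 (hmul ▸ hk ▸ hpk)).resolve_right hpM
    have hq : p = Nat.card (G ⧸ M) := (Nat.prime_dvd_prime_iff_eq hp.out (prime_card_quotient M hc)).1 hpq
    have hidx : M.index = p := hq.symm
    have hMn' : Nat.card M ∣ n / p := (Nat.dvd_div_iff_mul_dvd (hpk.trans hkn)).2 (by
      rw [hq, ← hmul]; exact hkn')
    have hnp : 0 < n / p := Nat.div_pos (Nat.le_of_dvd hn (hpk.trans hkn)) hp.out.pos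
    set f := (Nat.card M).factorization r with hf
    have hfle : f ≤ a := by
      by_contra h
      exact hrn (((pow_dvd_pow r (by omega : a + 1 ≤ f)).trans (Nat.ordProj_dvd _ _)).trans hd)
    have hno : ∀ s i : ℕ, s.Prime → 0 < i → s ^ i ∣ Nat.card M → ¬ (s = r ∧ i = a) → s ^ i % p ≠ 1 := by
      intro s i hs hi hsd hne
      refine not_mod_eq_one hok hnp hs hi (hsd.trans hMn') fun e => hne ?_
      obtain rfl : s = r := (Nat.prime_dvd_prime_iff_eq hs hr).1
        (hs.dvd_of_dvd_pow (e ▸ dvd_pow_self s hi.ne'))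
      exact ⟨rfl, Nat.pow_right_injective hs.two_le e⟩
    rcases lt_or_eq_of_le hfle with hlt | hfa
    · refine Or.inl (normal_of_index M hidx hpM fun s i hs hi hsd => hno s i hs hi hsd ?_)
      rintro ⟨rfl, rfl⟩
      have := (hs.pow_dvd_iff_le_factorization Nat.card_pos.ne').1 hsd
      omega
    obtain ⟨x, hx⟩ := exists_prime_orderOf_dvd_card' (G := G) p (hk ▸ hpk)
    have hxn : x ∈ normalizer (M : Set G) := (normalizer_eq_top_iff.2 (inferInstance : M.Normal)) ▸ mem_top x
    obtain ⟨S, hSM, hS, hxS⟩ := exists_invariant (s := r) hx M hxn hpM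
    rw [← hf, hfa] at hS
    obtain ⟨i, hi, hmod, hfix⟩ := exists_fixed_index hx hr hrp S hS hxS
    have hCs : ∀ s, s.Prime → s ≠ r → s ^ (Nat.card M).factorization s ∣
        Nat.card (M ⊓ centralizer ({x} : Set G) : Subgroup G) := by
      intro s hs hsr
      by_cases hsM : s ∣ Nat.card M
      · exact pow_dvd_fixed hx M hxn hpM hs hsM fun j hj hjd => hno s j hs hj hjd fun h => hsr h.1
      · rw [Nat.factorization_eq_zero_of_not_dvd hsM, pow_zero]; exact one_dvd _
    have hsub : ∀ i, i < a → r ^ i % p = 1 → i = 0 := by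
      intro j hj hjm
      by_contra h0
      exact hno r j hr (Nat.pos_of_ne_zero h0)
        ((pow_dvd_pow r (by omega)).trans (Nat.ordProj_dvd (Nat.card M) r)) (fun h => by omega) hjm
    rcases lt_or_eq_of_le hi with hia | hia
    · obtain rfl := hsub i hia hmod
      rw [Nat.sub_zero] at hfix
      refine Or.inl (normal_of_centralizes M hidx hpM hx ?_)
      set C := M ⊓ centralizer ({x} : Set G) with hC
      have hdC : Nat.card M ∣ Nat.card C := by
        rw [← Nat.factorization_le_iff_dvd Nat.card_pos.ne' Nat.card_pos.ne', Finsupp.le_def]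
        intro s
        by_cases hs : s.Prime
        · refine (hs.pow_dvd_iff_le_factorization Nat.card_pos.ne').1 ?_
          by_cases hsr : s = r
          · rw [hsr, ← hf, hfa, ← hfix]; exact card_dvd_of_le (inf_le_inf_right _ hSM)
          · exact hCs s hs hsr
        · rw [Nat.factorization_eq_zero_of_not_prime _ hs]; exact Nat.zero_le _
      exact inf_eq_left.1 (eq_of_le_of_card_ge (inf_le_left : C ≤ M) (Nat.le_of_dvd Nat.card_pos hdC))
    · rw [hia, Nat.sub_self, pow_zero] at hfix
      obtain ⟨h1, h2⟩ := normal_of_fixed_free hr hrp ha M hidx hfa hx hpM S hSM hS hxS hfix hCs hsub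
      exact Or.inr ⟨S, h1, hS, h2⟩

end CfsgLib.SmallSimple.Degree6000
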