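import Cfsg.Agent.Lib.SmallSimple.Band3640.Band
import Cfsg.Agent.S0496
import Cfsg.Agent.S0983
import Cfsg.Agent.Lib.SmallSimple.Degree6000.Reduce

/-!
The orders of non-abelian simple groups below 6000, and the divisibilities among them.
-/

set_option autoImplicit false
set_option linter.style.haveILetI false

namespace CfsgLib.SmallSimple.Degree6000

universe u

/-- The orders of non-abelian simple groups below 6000. -/
theorem card_cases {X : Type u} [Group X] [Finite X] [IsSimpleGroup X] (hX : ¬ IsMulCommutative X)
    (h : Nat.card X < 6000) :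
    Nat.card X ∈ [60, 168, 360, 504, 660, 1092, 2448, 2520, 3420, 4080, 5616] := by
  rcases Nat.le_total (Nat.card X) 1092 with h1 | h1
  · rcases Cfsg.Agent.S0496.result hX h1 with e | e | e | e | e | e <;> simp [e]
  rcases eq_or_lt_of_le h1 with e | h1
  · simp [← e]
  rcases le_or_gt (Nat.card X) 3640 with h2 | h2
  · rcases CfsgLib.SmallSimple.Band3640.card_mem_of_le hX h1 h2 with e | e | e <;> simp [e]
  · rcases Cfsg.Agent.S0983.result hX h2 (by omega) with e | e | e | e <;> simp [e] at h ⊢

/-- The simple orders dividing one of them. -/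
theorem card_of_dvd {n : ℕ} (hn0 : 0 < n) (hn : n < 6000) (L : List ℕ)
    (hL : ([60, 168, 360, 504, 660, 1092, 2448, 2520, 3420, 4080, 5616].filter fun k => n % k == 0) = L)
    {X : Type u} [Group X] [Finite X] [IsSimpleGroup X] (hX : ¬ IsMulCommutative X) (hd : Nat.card X ∣ n) :
    Nat.card X ∈ L := by
  subst hL
  exact List.mem_filter.2 ⟨card_cases hX (lt_of_le_of_lt (Nat.le_of_dvd hn0 hd) hn),
    by simp [Nat.mod_eq_zero_of_dvd hd]⟩

/-- When the only simple order dividing `n` is `n`, a group of that order that is not simple is solvable. -/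
theorem solvable_of_not_simple {n : ℕ} (hn0 : 0 < n)
    (hord : ∀ (X : Type u) [Group X] [Finite X] [IsSimpleGroup X], ¬ IsMulCommutative X → Nat.card X ∣ n →
      Nat.card X = n)
    {G : Type u} [Group G] [Finite G] (hG : Nat.card G = n) (hns : ¬ IsSimpleGroup G) : Group.IsSolvable G := by
  rcases subsingleton_or_nontrivial G with hs | hnt
  · infer_instance
  obtain ⟨M, hMn, hMt, hsimp⟩ := exists_maximal_normal (G := G)
  have hmul := card_eq_index_mul M
  have hMlt : Nat.card M < n := by
    rw [← hG]
    exact lt_of_le_of_ne (Subgroup.card_le_card_group M) fun h => hMt (Subgroup.eq_top_of_card_eq M h)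
  have hMd : Nat.card M ∣ n := hG ▸ Subgroup.card_subgroup_dvd_card M
  haveI : Group.IsSolvable M := solvable_of_orders (Nat.card M) (fun X _ _ _ hX hdX => by
    have h1 := hord X hX (hdX.trans hMd)
    have h2 := Nat.le_of_dvd Nat.card_pos hdX
    omega) _ M rfl dvd_rfl
  haveI : Group.IsSolvable (G ⧸ M) := by
    by_cases hc : IsMulCommutative (G ⧸ M)
    · exact Group.isSolvable_of_comm fun a b => mul_comm' a b
    · exfalso
      have h1 := hord (G ⧸ M) hc ((Dvd.intro _ hmul.symm : Nat.card (G ⧸ M) ∣ Nat.card G).trans (dvd_of_eq hG))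
      have hM1 : Nat.card M = 1 := by
        rw [hG, h1] at hmul
        exact (Nat.eq_of_mul_eq_mul_left hn0 ((mul_one n).trans hmul)).symm
      have hbot := Subgroup.eq_bot_of_card_eq M hM1
      subst hbot
      exact hns (QuotientGroup.quotientBot (G := G)).symm.isSimpleGroup
  exact Group.isSolvable_of_ker_le_range (G' := M) (G'' := G ⧸ M) M.subtype (QuotientGroup.mk' M) (by
    rw [QuotientGroup.ker_mk', Subgroup.range_subtype])

end CfsgLib.SmallSimple.Degree6000
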