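import Cfsg.Agent.Lib.SmallSimple.Degree6000.Reduce
import Cfsg.Agent.Lib.SmallGroups.AbelianSylow
import Cfsg.Agent.S0496

/-!
Tools for non-simple non-solvable groups of order 360 and 504.
-/

set_option autoImplicit false
set_option linter.style.haveILetI false

namespace CfsgLib.SmallSimple.Degree6000

open Subgroup
open scoped Pointwise

universe u

/-- A non-solvable group has a perfect normal subgroup that is not solvable. -/
theorem exists_perfect {G : Type u} [Group G] [Finite G] (hns : ¬ Group.IsSolvable G) :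
    ∃ L : Subgroup G, L.Normal ∧ commutator L = ⊤ ∧ ¬ Group.IsSolvable L := by
  haveI := Fintype.ofFinite (Subgroup G)
  obtain ⟨i, j, hij, heq⟩ := Finite.exists_ne_map_eq_of_infinite (derivedSeries G)
  wlog hlt : i < j generalizing i j with H
  · exact H j i (Ne.symm hij) heq.symm (lt_of_le_of_ne (not_lt.1 hlt) (Ne.symm hij))
  have hanti : ∀ a b, a ≤ b → derivedSeries G b ≤ derivedSeries G a := fun a b h => by
    induction h with
    | refl => exact le_rfl
    | step _ ih =>
      refine le_trans ?_ ih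
      rw [derivedSeries_succ]
      exact commutator_le_left _ _
  have hst : derivedSeries G (i + 1) = derivedSeries G i :=
    le_antisymm (hanti _ _ (Nat.le_succ i)) (heq.le.trans (hanti _ _ hlt))
  have hne : derivedSeries G i ≠ ⊥ := fun h => hns ((Group.isSolvable_def G).2 ⟨i, h⟩)
  have hperf : commutator (derivedSeries G i) = ⊤ := by
    refine map_injective (derivedSeries G i).subtype_injective ?_
    rw [map_subtype_commutator, ← MonoidHom.range_eq_map, range_subtype]
    exact (derivedSeries_succ G i).symm.trans hst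
  refine ⟨derivedSeries G i, inferInstance, hperf, fun hs => ?_⟩
  haveI := hs
  haveI : Nontrivial (derivedSeries G i) := (Subgroup.nontrivial_iff_ne_bot _).2 hne
  exact (Group.IsSolvable.commutator_lt_top_of_nontrivial (derivedSeries G i)).ne hperf

/-- In a perfect group with Sylow `3`-subgroups of order nine no subgroup of order three is normal. -/
theorem false_of_normal_three {L : Type u} [Group L] [Finite L] (hperf : commutator L = ⊤) {m : ℕ}
    (hcard : Nat.card L = 3 ^ 2 * m) (hm : ¬ 3 ∣ m) (T : Subgroup L) [T.Normal] (hT : Nat.card T = 3) : False := by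
  haveI : Fact (Nat.Prime 3) := ⟨Nat.prime_three⟩
  obtain ⟨S, hS⟩ := (IsPGroup.of_card (n := 1) (by rw [hT, pow_one]) : IsPGroup 3 T).exists_le_sylow
  have hS9 : Nat.card (S : Subgroup L) = 3 ^ 2 := CfsgLib.SmallGroups.card_sylow_eq hcard hm S
  haveI : IsMulCommutative (S : Subgroup L) := IsPGroup.isMulCommutative_of_card_eq_prime_sq hS9
  haveI : IsCyclic T := isCyclic_of_prime_card hT
  have hcomm : ∀ u v : MulAut T, u * v = v * u := fun u v =>
    (IsCyclic.mulAutMulEquiv T).injective (by rw [map_mul, map_mul, mul_comm])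
  have hker : (⊤ : Subgroup L) ≤ (MulAut.conjNormal : L →* MulAut T).ker := by
    rw [← hperf, commutator_def, commutator_le]
    intro g _ h _
    rw [MonoidHom.mem_ker, map_commutatorElement, commutatorElement_eq_one_iff_mul_comm]
    exact hcomm _ _
  obtain ⟨z, hz, hz1⟩ : ∃ z ∈ T, z ≠ 1 := by
    haveI : Nontrivial T := Finite.one_lt_card_iff_nontrivial.1 (by rw [hT]; norm_num)
    obtain ⟨z, hz⟩ := exists_ne (1 : T)
    exact ⟨z, z.2, fun h => hz (Subtype.ext h)⟩
  refine hz1 (CfsgLib.SmallGroups.eq_one_of_central_in_normalizer_of_abelian_sylow hperf S (hS hz) fun n _ => ?_)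
  have h := congrArg (fun φ : MulAut T => ((φ ⟨z, hz⟩ : T) : L)) (MonoidHom.mem_ker.1 (hker (mem_top n)))
  simp only [MulAut.conjNormal_apply, MulAut.one_apply] at h
  exact mul_inv_eq_iff_eq_mul.1 h

/-- A perfect group of order 180 or 360 is simple. -/
theorem isSimpleGroup_of_perfect {L : Type u} [Group L] [Finite L] (hperf : commutator L = ⊤)
    (hcard : Nat.card L = 180 ∨ Nat.card L = 360) : IsSimpleGroup L := by
  haveI : Fact (Nat.Prime 3) := ⟨Nat.prime_three⟩
  haveI : Nontrivial L := Finite.one_lt_card_iff_nontrivial.1 (by omega)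
  obtain ⟨M, hMn, hMt, hsimp⟩ := exists_maximal_normal (G := L)
  have hmul := card_eq_index_mul M
  have hnc : ¬ IsMulCommutative (L ⧸ M) := by
    intro hc
    refine hMt (eq_top_iff.2 (hperf ▸ ?_))
    rw [commutator_def, commutator_le]
    intro g _ h _
    rw [← QuotientGroup.ker_mk' M, MonoidHom.mem_ker, map_commutatorElement, commutatorElement_eq_one_iff_mul_comm]
    exact mul_comm' _ _
  have hpos : 0 < Nat.card M := Nat.card_pos
  have hdvd : Nat.card (L ⧸ M) ∣ 360 := (Dvd.intro _ hmul.symm : Nat.card (L ⧸ M) ∣ Nat.card L).trans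
    (by rcases hcard with h | h <;> rw [h] <;> norm_num)
  have hle : Nat.card (L ⧸ M) ≤ 360 := Nat.le_of_dvd (by norm_num) hdvd
  have hq : Nat.card (L ⧸ M) = 60 ∨ Nat.card (L ⧸ M) = 360 := by
    rcases Cfsg.Agent.S0496.result hnc (by omega) with e | e | e | e | e | e <;> rw [e] at hdvd <;>
      first | omega | (exact absurd hdvd (by norm_num))
  rcases hq with e | e
  · exfalso
    rw [e] at hmul
    have hM : Nat.card M = 3 ∨ Nat.card M = 6 := by omega
    obtain ⟨P⟩ : Nonempty (Sylow 3 M) := inferInstance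
    have hP : Nat.card (P : Subgroup M) = 3 := by
      rw [P.card_eq_multiplicity]
      rcases hM with h | h <;> rw [h]
      · rw [Nat.prime_three.factorization_self, pow_one]
      · rw [show (6 : ℕ) = 3 * 2 by norm_num, Nat.factorization_mul (by norm_num) (by norm_num),
          Finsupp.add_apply, Nat.prime_three.factorization_self,
          Nat.factorization_eq_zero_of_not_dvd (by norm_num : ¬ 3 ∣ 2), Nat.add_zero, pow_one]
    have h1 : Nat.card (Sylow 3 M) = 1 := by
      have hd := CfsgLib.SmallGroups.card_sylow_dvd_card (G := M) (p := 3)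
      have hmod := CfsgLib.SmallGroups.mod_eq_one_card_sylow (G := M) (p := 3)
      have h2 := Nat.le_of_dvd hpos hd
      rcases hM with h | h <;> rw [h] at hd h2 <;> interval_cases hk : Nat.card (Sylow 3 M) <;> omega
    haveI hPn := CfsgLib.SmallGroups.sylow_normal_of_card_eq_one h1 P
    haveI : (P : Subgroup M).Characteristic := P.characteristic_of_normal hPn
    have hT : Nat.card ((P : Subgroup M).map M.subtype) = 3 := by rw [card_map_of_injective M.subtype_injective, hP]
    rcases hcard with h | h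
    · exact false_of_normal_three hperf (m := 20) (by rw [h]; norm_num) (by norm_num) _ hT
    · exact false_of_normal_three hperf (m := 40) (by rw [h]; norm_num) (by norm_num) _ hT
  · have hbot := Subgroup.eq_bot_of_card_eq M (by rw [e] at hmul; omega)
    subst hbot
    exact (QuotientGroup.quotientBot (G := L)).symm.isSimpleGroup

/-- A permutation commuting with a permutation of prime order `ℓ` on fewer than `2 ℓ` points and of
coprime order is trivial when it exchanges no fixed point with a moved one. -/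
theorem perm_eq_one {Ω : Type*} [Finite Ω] {ℓ s : ℕ} (hℓ : ℓ.Prime) (hs : ¬ ℓ ∣ s) (hs0 : 0 < s)
    (hΩ : Nat.card Ω = ℓ + 1) (σ τ : Equiv.Perm Ω) (hσ : σ ^ ℓ = 1) (hσ1 : σ ≠ 1) (hτ : τ ^ s = 1)
    (hc : Commute σ τ) : τ = 1 := by
  classical
  haveI := Fintype.ofFinite Ω
  haveI : Fact ℓ.Prime := ⟨hℓ⟩
  obtain ⟨b, hb⟩ : ∃ b, σ b ≠ b := by
    by_contra h
    push Not at h
    exact hσ1 (Equiv.ext h)
  have hper : ∀ y, σ y ≠ y → ∀ i, (σ ^ i) y = y → ℓ ∣ i := by
    intro y hy i hi
    by_contra hd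
    obtain ⟨n, hn⟩ := exists_pow_eq_self_of_coprime (x := σ) (n := i)
      (Nat.Coprime.coprime_dvd_right (orderOf_dvd_of_pow_eq_one hσ) (hℓ.coprime_iff_not_dvd.2 hd).symm)
    refine hy ?_
    rw [← hn, Equiv.Perm.pow_apply_eq_self_of_apply_eq_self hi]
  set O := Finset.univ.image (fun i : Fin ℓ => (σ ^ (i : ℕ)) b) with hO
  have hOc : O.card = ℓ := by
    rw [hO, Finset.card_image_of_injective, Finset.card_univ, Fintype.card_fin]
    intro i j hij
    simp only at hij
    by_contra hne
    wlog hlt : (i : ℕ) < j generalizing i j with H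
    · exact H hij.symm (Ne.symm hne) (lt_of_le_of_ne (not_lt.1 hlt) fun e => hne (Fin.ext e.symm))
    have h := hper b hb ((j : ℕ) - i) (by
      apply (σ ^ (i : ℕ)).injective
      rw [← Equiv.Perm.mul_apply, ← pow_add, Nat.add_sub_cancel' hlt.le]
      exact hij.symm)
    have := Nat.le_of_dvd (by omega) h
    omega
  have hout : ∀ y z, y ∉ O → z ∉ O → y = z := by
    intro y z hy hz
    have hc1 : Oᶜ.card ≤ 1 := by
      rw [Finset.card_compl, hOc, ← Nat.card_eq_fintype_card, hΩ]; omega
    exact Finset.card_le_one.1 hc1 y (Finset.mem_compl.2 hy) z (Finset.mem_compl.2 hz)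
  have hcomm : ∀ i y, τ ((σ ^ i) y) = (σ ^ i) (τ y) := fun i y => by
    rw [← Equiv.Perm.mul_apply, ← (hc.pow_left i).eq, Equiv.Perm.mul_apply]
  by_cases hτb : τ b ∈ O
  · obtain ⟨j, -, hj⟩ := Finset.mem_image.1 hτb
    have hn : ∀ n : ℕ, (τ ^ n) b = (σ ^ ((j : ℕ) * n)) b := by
      intro n
      induction n with
      | zero => simp
      | succ n ih =>
        rw [pow_succ', Equiv.Perm.mul_apply, ih, hcomm, ← hj, ← Equiv.Perm.mul_apply, ← pow_add]
        congr 2
    have h1 := hper b hb ((j : ℕ) * s) (by rw [← hn, hτ]; rfl)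
    have hj0 : (j : ℕ) = 0 := by
      rcases hℓ.dvd_mul.1 h1 with h | h
      · exact Nat.eq_zero_of_dvd_of_lt h j.2
      · exact absurd h hs
    rw [hj0, pow_zero, Equiv.Perm.one_apply] at hj
    have hfix : ∀ y ∈ O, τ y = y := by
      intro y hy
      obtain ⟨i, -, rfl⟩ := Finset.mem_image.1 hy
      rw [hcomm, ← hj]
    refine Equiv.ext fun y => ?_
    by_cases hy : y ∈ O
    · exact hfix y hy
    · refine hout _ _ (fun h => hy ?_) hy
      have := τ.injective (hfix _ h)
      rwa [this] at h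
  · exfalso
    have hσc : σ (τ b) ∉ O := by
      intro h
      obtain ⟨i, -, hi⟩ := Finset.mem_image.1 h
      refine hτb (Finset.mem_image.2 ⟨⟨((i : ℕ) + (ℓ - 1)) % ℓ, Nat.mod_lt _ hℓ.pos⟩, Finset.mem_univ _, ?_⟩)
      show (σ ^ (((i : ℕ) + (ℓ - 1)) % ℓ)) b = τ b
      rw [← pow_eq_pow_mod _ hσ, add_comm, pow_add, Equiv.Perm.mul_apply, hi, ← Equiv.Perm.mul_apply, ← pow_succ,
        Nat.sub_add_cancel hℓ.one_le, hσ, Equiv.Perm.one_apply]
    have hfix := hout _ _ hσc hτb
    refine hb (τ.injective ?_)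
    have h1 := hcomm 1 b
    rw [pow_one] at h1
    rw [h1, hfix]

variable {G : Type u} [Group G] [Finite G]

/-- An element of coprime order centralizing an element of order `ℓ` of a simple normal subgroup with `ℓ + 1`
Sylow `ℓ`-subgroups centralizes it. -/
theorem centralizes_simple (A : Subgroup G) [A.Normal] [IsSimpleGroup A] {ℓ s : ℕ} [hℓ : Fact ℓ.Prime]
    (hk : Nat.card (Sylow ℓ A) = ℓ + 1) (hs : ¬ ℓ ∣ s) (hs0 : 0 < s) {u y : G} (hu : u ∈ A)
    (huo : orderOf u = ℓ) (hy : y ^ s = 1) (huy : Commute u y) : y ∈ centralizer (A : Set G) := by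
  let Ψ : G →* Equiv.Perm (Sylow ℓ A) :=
    (MulAction.toPermHom (MulAut A) (Sylow ℓ A)).comp (MulAut.conjNormal : G →* MulAut A)
  have hinj : ∀ a : A, Ψ a = 1 → a = 1 := by
    intro a ha
    have hA : ∀ Q : Sylow ℓ A, Ψ a Q = a • Q := fun Q => by
      show (MulAut.conjNormal (H := A) (a : G)) • Q = (MulAut.conj a) • Q
      congr 1
      exact MulEquiv.ext fun z => Subtype.ext (by simp [MulAut.conjNormal_apply])
    have hmem : a ∈ (MulAction.toPermHom A (Sylow ℓ A)).ker := MonoidHom.mem_ker.2 (Equiv.ext fun Q => by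
      have := hA Q
      rw [ha] at this
      exact this.symm)
    rcases IsSimpleGroup.eq_bot_or_eq_top_of_normal _ (MonoidHom.normal_ker (MulAction.toPermHom A (Sylow ℓ A)))
      with h | h
    · rw [h, mem_bot] at hmem; exact hmem
    · exfalso
      have hone : ∀ Q R : Sylow ℓ A, Q = R := fun Q R => by
        obtain ⟨c, hc⟩ := MulAction.exists_smul_eq A Q R
        have h1 : c • Q = Q := congrArg (fun e : Equiv.Perm (Sylow ℓ A) => e Q)
          (MonoidHom.mem_ker.1 (h ▸ mem_top c : c ∈ (MulAction.toPermHom A (Sylow ℓ A)).ker))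
        exact h1.symm.trans hc
      haveI : Subsingleton (Sylow ℓ A) := ⟨hone⟩
      have h1 : Nat.card (Sylow ℓ A) ≤ 1 := Finite.card_le_one_iff_subsingleton.2 inferInstance
      have := hℓ.out.one_lt
      omega
  have hΨy : Ψ y = 1 := by
    refine perm_eq_one hℓ.out hs hs0 hk (Ψ u) (Ψ y) ?_ ?_ ?_ (huy.map Ψ)
    · have hul : u ^ ℓ = 1 := orderOf_dvd_iff_pow_eq_one.1 (dvd_of_eq huo)
      rw [← map_pow, hul, map_one]
    · intro h
      have h1 := hinj ⟨u, hu⟩ h
      have h2 : u = 1 := congrArg Subtype.val h1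
      rw [h2, orderOf_one] at huo
      exact hℓ.out.ne_one huo.symm
    · rw [← map_pow, hy, map_one]
  rw [mem_centralizer_iff]
  intro a ha
  have hmem : y * a * y⁻¹ * a⁻¹ ∈ A :=
    mul_mem ((inferInstance : A.Normal).conj_mem a ha y) (inv_mem ha)
  have h := hinj ⟨_, hmem⟩ (by
    show Ψ (y * a * y⁻¹ * a⁻¹) = 1
    rw [map_mul, map_mul, map_mul, map_inv, map_inv, hΨy]; simp)
  have h' : y * a * y⁻¹ * a⁻¹ = 1 := congrArg Subtype.val h
  rw [mul_inv_eq_one, mul_inv_eq_iff_eq_mul] at h'
  exact h'.symm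

/-- The Sylow subgroups of a normal subgroup of coprime index are all. -/
theorem card_sylow_of_normal {ℓ : ℕ} [hℓ : Fact ℓ.Prime] (A : Subgroup G) [A.Normal] (h : ¬ ℓ ∣ A.index) :
    Nat.card (Sylow ℓ G) = Nat.card (Sylow ℓ A) := by
  have hle : ∀ P : Sylow ℓ G, (P : Subgroup G) ≤ A := by
    intro P y hy
    rw [← QuotientGroup.ker_mk' A, MonoidHom.mem_ker, ← orderOf_eq_one_iff]
    obtain ⟨i, hi⟩ := P.isPGroup' ⟨y, hy⟩
    have h1 : orderOf (QuotientGroup.mk' A y) ∣ ℓ ^ i := (orderOf_map_dvd _ y).trans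
      (orderOf_dvd_of_pow_eq_one (congrArg Subtype.val hi))
    exact Nat.eq_one_of_dvd_coprimes ((hℓ.out.coprime_iff_not_dvd.2 h).pow_left i) h1 (_root_.orderOf_dvd_natCard _)
  refine Nat.card_eq_of_bijective (fun P => P.subtype (hle P)) ⟨fun P Q hPQ => Sylow.subtype_injective hPQ,
    fun R => ?_⟩
  obtain ⟨P, hP⟩ := (R.isPGroup'.map A.subtype).exists_le_sylow
  refine ⟨P, Sylow.ext (le_antisymm ?_ ?_)⟩
  · have hR : IsPGroup ℓ ((P.subtype (hle P) : Sylow ℓ A) : Subgroup A) := (P.subtype (hle P)).isPGroup'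
    refine (R.is_maximal' hR ?_).le
    intro y hy
    exact hP ⟨y, hy, rfl⟩
  · intro y hy
    exact hP ⟨y, hy, rfl⟩

/-- The normalizer and the centralizer of a subgroup of prime order. -/
theorem card_normalizer_dvd {ℓ : ℕ} [hℓ : Fact ℓ.Prime] (Q : Subgroup G) (hQ : Nat.card Q = ℓ) :
    Nat.card (normalizer (Q : Set G)) ∣ Nat.card (centralizer (Q : Set G)) * (ℓ - 1) := by
  haveI : IsCyclic Q := isCyclic_of_prime_card hQ
  let f := Q.normalizerMonoidHom
  have h := f.ker.card_mul_index
  rw [Subgroup.index_ker] at h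
  rw [← h]
  refine Nat.mul_dvd_mul ?_ ?_
  · rw [Subgroup.normalizerMonoidHom_ker]
    exact dvd_of_eq (Nat.card_congr (subgroupOfEquivOfLe (centralizer_le_normalizer _)).toEquiv)
  · refine (card_subgroup_dvd_card _).trans (dvd_of_eq ?_)
    rw [IsCyclic.card_mulAut Q, hQ, Nat.totient_prime hℓ.out]

end CfsgLib.SmallSimple.Degree6000
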