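import Cfsg.Agent.Lib.SmallSimple.Degree6000.Facts
import Cfsg.Agent.Lib.SmallSimple.Degree6000.Mid
import Cfsg.Agent.Lib.SmallGroups.BrauerFew.Local
import Cfsg.Agent.S1003
import Cfsg.Agent.S4782

/-!
The orders 360 and 504.
-/

set_option autoImplicit false
set_option linter.style.haveILetI false

namespace CfsgLib.SmallSimple.Degree6000

open Subgroup CfsgLib.Char CfsgLib.CharBlocks CfsgLib.CharNormal

universe u

variable {G : Type u} [Group G] [Finite G]

theorem deg_ne_one_of_perfect {L : Type u} [Group L] [Finite L] (hperf : commutator L = ⊤)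
    (χ : Cfsg.IrrCharacter L) (hne : χ ≠ irrOne) : Cfsg.charDegree (χ : L → ℂ) ≠ 1 := by
  intro h
  refine hne (Subtype.ext (funext fun g => ?_))
  have h1 : (χ : L → ℂ) 1 = 1 := by rw [← coe_charDegree_irr, h, Nat.cast_one]
  rw [← linearHom_apply (isCharacter_of_isIrr χ.2) h1 g,
    CfsgLib.SmallGroups.BrauerFew.linear_trivial_of_perfect hperf (linearHom (isCharacter_of_isIrr χ.2) h1),
    irrOne_apply]
  rfl

theorem five_sylow_sixty {A : Type u} [Group A] [Finite A] [IsSimpleGroup A] (h : Nat.card A = 60)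
    [Fact (Nat.Prime 5)] : Nat.card (Sylow 5 A) = 5 + 1 := by
  have h1 := CfsgLib.SmallGroups.card_sylow_mem_filter (G := A) (p := 5) (a := 1) (m := 12)
    (by rw [h]; norm_num) (by norm_num)
  have h2 : Nat.card (Sylow 5 A) ≠ 1 := CfsgLib.SmallGroups.card_sylow_ne_one
    (CfsgLib.SmallGroups.not_isMulCommutative_of_not_prime (by rw [h]; norm_num)) (by rw [h]; norm_num)
  simp only [Finset.mem_filter, Finset.mem_range] at h1
  obtain ⟨h1a, h1b, h1c⟩ := h1
  interval_cases hv : Nat.card (Sylow 5 A) <;> simp_all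

/-- The centralizer of a simple normal subgroup with `ℓ + 1` Sylow `ℓ`-subgroups of index divisible by three. -/
theorem three_dvd_centralizer (A : Subgroup G) [A.Normal] [IsSimpleGroup A] {ℓ : ℕ} [hℓ : Fact ℓ.Prime]
    (hnc : ¬ IsMulCommutative A) (hk : Nat.card (Sylow ℓ A) = ℓ + 1) {a : ℕ} (hA : Nat.card A = ℓ * a)
    (ha : ¬ ℓ ∣ a) (hidx : ¬ ℓ ∣ A.index) (h9 : 3 ^ 2 ∣ Nat.card G)
    (h3 : ¬ 3 ^ 2 ∣ (ℓ + 1) * (ℓ - 1)) (hl3 : ℓ ≠ 3) :
    3 ∣ Nat.card (centralizer (A : Set G)) ∧ A ⊓ centralizer (A : Set G) = ⊥ := by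
  haveI : Fact (Nat.Prime 3) := ⟨Nat.prime_three⟩
  have hbot : A ⊓ centralizer (A : Set G) = ⊥ := by
    rw [eq_bot_iff]
    intro z hz
    have h1 : (⟨z, (mem_inf.1 hz).1⟩ : A) ∈ center A := mem_center_iff.2 fun b =>
      Subtype.ext (mem_centralizer_iff.1 (mem_inf.1 hz).2 b b.2)
    rw [CfsgLib.SmallGroups.eq_bot_or_comm_of_centre hnc, mem_bot] at h1
    rw [mem_bot]
    exact congrArg Subtype.val h1
  refine ⟨?_, hbot⟩
  obtain ⟨Q⟩ : Nonempty (Sylow ℓ A) := inferInstance
  have hQ : Nat.card (Q : Subgroup A) = ℓ := by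
    simpa using CfsgLib.SmallGroups.card_sylow_eq (p := ℓ) (a := 1) (by rw [pow_one]; exact hA) ha Q
  set Q' := (Q : Subgroup A).map A.subtype with hQ'def
  have hQ' : Nat.card Q' = ℓ := by rw [card_map_of_injective A.subtype_injective, hQ]
  have hGc : Nat.card G = ℓ ^ 1 * (a * A.index) := by rw [← A.card_mul_index, hA, pow_one, mul_assoc]
  have hm : ¬ ℓ ∣ a * A.index := fun h => (hℓ.out.dvd_mul.1 h).elim ha hidx
  obtain ⟨P, hP⟩ := (IsPGroup.of_card (n := 1) (by rw [hQ', pow_one]) : IsPGroup ℓ Q').exists_le_sylow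
  have hPQ : (P : Subgroup G) = Q' := (eq_of_le_of_card_ge hP
    (by rw [hQ', CfsgLib.SmallGroups.card_sylow_eq hGc hm P, pow_one])).symm
  have hmul := CfsgLib.SmallGroups.card_sylow_mul_card_normalizer P
  rw [card_sylow_of_normal A hidx, hk, hPQ] at hmul
  have hN := card_normalizer_dvd Q' hQ'
  have h3C : 3 ∣ Nat.card (centralizer (Q' : Set G)) := by
    have h1 : 3 ^ 2 ∣ Nat.card (centralizer (Q' : Set G)) * ((ℓ + 1) * (ℓ - 1)) := by
      refine h9.trans ?_
      rw [← hmul]
      obtain ⟨c, hc⟩ := hN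
      exact ⟨c, by rw [mul_assoc, ← hc]; ring⟩
    by_contra hn
    exact h3 (((Nat.prime_three.coprime_iff_not_dvd.2 hn).pow_left 2).dvd_of_dvd_mul_left h1)
  obtain ⟨y, hy⟩ := exists_prime_orderOf_dvd_card' (G := centralizer (Q' : Set G)) 3 h3C
  rw [← Subgroup.orderOf_coe] at hy
  obtain ⟨u, hu⟩ := exists_prime_orderOf_dvd_card' (G := Q') ℓ (dvd_of_eq hQ'.symm)
  rw [← Subgroup.orderOf_coe] at hu
  have hy3 : (y : G) ^ 3 = 1 := by
    have := pow_orderOf_eq_one (y : G)
    rwa [hy] at this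
  have hmem := centralizes_simple A (ℓ := ℓ) (s := 3) hk
    (fun h => hl3 ((Nat.prime_dvd_prime_iff_eq hℓ.out Nat.prime_three).1 h)) (by norm_num)
    (map_subtype_le _ u.2) hu hy3 (mem_centralizer_iff.1 y.2 u u.2)
  exact hy ▸ Subgroup.orderOf_dvd_natCard _ hmem

/-- A subgroup commuting with a normal subgroup, meeting it trivially: its order. -/
theorem centralizer_card_dvd (A : Subgroup G) [A.Normal] (hbot : A ⊓ centralizer (A : Set G) = ⊥) :
    Nat.card A * Nat.card (centralizer (A : Set G)) ∣ Nat.card G := by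
  have h := card_dvd_of_le (le_top : A ⊔ centralizer (A : Set G) ≤ ⊤)
  rw [card_top] at h
  refine dvd_trans (dvd_of_eq ?_) h
  haveI : ((A.subgroupOf (A ⊔ centralizer (A : Set G))).Normal) := inferInstance
  have e : ((centralizer (A : Set G)).subgroupOf (A ⊔ centralizer (A : Set G))).IsComplement'
      (A.subgroupOf (A ⊔ centralizer (A : Set G))) := by
    refine isComplement'_of_disjoint_and_mul_eq_univ ?_ ?_
    · rw [disjoint_iff, eq_bot_iff]
      intro z hz
      have : (z : G) ∈ A ⊓ centralizer (A : Set G) := mem_inf.2 ⟨(mem_inf.1 hz).2, (mem_inf.1 hz).1⟩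
      rw [hbot, mem_bot] at this
      rw [mem_bot]
      exact Subtype.ext this
    · rw [← mul_normal, ← subgroupOf_sup le_sup_right le_sup_left, sup_comm, subgroupOf_self, coe_top]
  have h1 := e.card_mul
  rw [Nat.card_congr (subgroupOfEquivOfLe le_sup_left).toEquiv,
    Nat.card_congr (subgroupOfEquivOfLe le_sup_right).toEquiv] at h1
  rw [mul_comm]
  exact h1

/-- The power automorphism of a cyclic group of prime order. -/
noncomputable def powAut {Q : Subgroup G} {p i : ℕ} [hp : Fact p.Prime] (hQ : Nat.card Q = p)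
    (hi : i.Coprime p) : MulAut Q :=
  haveI : IsCyclic Q := isCyclic_of_prime_card hQ
  letI : CommGroup Q := IsCyclic.commGroup
  MulEquiv.ofBijective (powMonoidHom i : Q →* Q) (powCoprime (G := Q) (n := i) (hQ.symm ▸ hi.symm)).bijective

/-- Order 504. -/
theorem false_504 (hcard : Nat.card G = 504) (hns : ¬ IsSimpleGroup G) (h7 : 7 ∈ Cfsg.degreePrimes G)
    (h2 : 2 ∈ Cfsg.degreePrimes G) (hadj : ¬ (Cfsg.degreeGraph G).Adj 2 3)
    (hmodel : ∀ (A : Type u) [Group A] [Finite A] [IsSimpleGroup A], Nat.card A = 168 →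
      ∃ d ∈ Cfsg.charDegrees A, 6 ∣ d) : False := by
  haveI : Fact (Nat.Prime 7) := ⟨by norm_num⟩
  haveI : Fact (Nat.Prime 2) := ⟨Nat.prime_two⟩
  by_cases hsol : Group.IsSolvable G
  · rcases solvable_cases (p := 7) (r := 2) (a := 3) (n := 504) (by norm_num) (by norm_num) Nat.prime_two
      (by norm_num) (by norm_num) (by norm_num) (by decide +kernel) _ G hcard dvd_rfl (by norm_num) hsol with
      h | ⟨S, hSn, hS, hSc⟩
    · exact not_mem_of_normal_prime (by rw [hcard]; norm_num) h h7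
    · refine not_mem_degreePrimes S hSc (fun hd => ?_) h2
      have := S.card_mul_index
      rw [hS, hcard] at this
      omega
  obtain ⟨L, hLn, hperf, hLs⟩ := exists_perfect hsol
  have hLd : Nat.card L ∣ 504 := hcard ▸ card_subgroup_dvd_card L
  have hfac : ∀ X : Type u, ∀ [Group X] [Finite X] [IsSimpleGroup X], ¬ IsMulCommutative X → Nat.card X ∣ 504 →
      Nat.card X = 168 ∨ Nat.card X = 504 := fun X _ _ _ hX hd => by
    have := Nat.le_of_dvd (by norm_num) hd
    rcases Cfsg.Agent.S0496.result hX (by omega) with e | e | e | e | e | e <;> rw [e] at hd <;>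
      first | omega | (exact absurd hd (by norm_num))
  haveI : Nontrivial L := by
    by_contra h
    rw [not_nontrivial_iff_subsingleton] at h
    exact hLs inferInstance
  obtain ⟨M, hMn, hMt, hsimp⟩ := exists_maximal_normal (G := L)
  have hnc : ¬ IsMulCommutative (L ⧸ M) := fun hc => by
    refine hMt (eq_top_iff.2 (hperf ▸ ?_))
    rw [_root_.commutator_def, commutator_le]
    intro g _ h _
    rw [← QuotientGroup.ker_mk' M, MonoidHom.mem_ker, map_commutatorElement, commutatorElement_eq_one_iff_mul_comm]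
    exact mul_comm' _ _
  have hmul := card_eq_index_mul M
  have hq := hfac (L ⧸ M) hnc ((Dvd.intro _ hmul.symm : Nat.card (L ⧸ M) ∣ Nat.card L).trans hLd)
  have hLle := Nat.le_of_dvd (by norm_num) hLd
  have hMpos : 0 < Nat.card M := Nat.card_pos
  rcases hq with hq | hq
  swap
  · -- `G` would be simple
    have hM1 : Nat.card M = 1 := by rw [hq] at hmul; nlinarith
    have hbot := Subgroup.eq_bot_of_card_eq M hM1
    subst hbot
    haveI := (QuotientGroup.quotientBot (G := L)).symm.isSimpleGroup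
    have htop : L = ⊤ := Subgroup.eq_top_of_card_eq L (by rw [hcard, hmul, hq, hM1])
    exact hns (((MulEquiv.subgroupCongr htop).trans Subgroup.topEquiv).symm.isSimpleGroup)
  obtain ⟨d, hd, h6⟩ := hmodel (L ⧸ M) hq
  by_cases hLG : L = ⊤
  · have e : G ≃* L := ((MulEquiv.subgroupCongr hLG).trans Subgroup.topEquiv).symm
    have hdG := charDegrees_of_equiv e (charDegrees_quotient_subset M hd)
    exact hadj (adj_of_degree Nat.prime_two Nat.prime_three (by norm_num) hdG (by simpa using h6))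
  -- `L` is simple of order 168
  have hL168 : Nat.card L = 168 := by
    rw [hq] at hmul
    have hne : Nat.card L ≠ 504 := fun e => hLG (Subgroup.eq_top_of_card_eq L (by rw [e, hcard]))
    obtain ⟨c, hc⟩ := hLd
    have : Nat.card M = 1 := by
      rw [hmul] at hc hLle hne
      have h1 : Nat.card M ≤ 3 := by omega
      interval_cases hM : Nat.card M <;> omega
    omega
  haveI : IsSimpleGroup L := by
    have hbot := Subgroup.eq_bot_of_card_eq M (by rw [hq, hL168] at hmul; omega)
    subst hbot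
    exact (QuotientGroup.quotientBot (G := L)).symm.isSimpleGroup
  have hnL : ¬ IsMulCommutative L := CfsgLib.SmallGroups.not_isMulCommutative_of_not_prime (by rw [hL168]; norm_num)
  have hidx : L.index = 3 := by
    have := L.index_mul_card
    rw [hL168, hcard] at this
    omega
  obtain ⟨h3, hbot⟩ := three_dvd_centralizer L (ℓ := 7) hnL (Cfsg.Agent.S1003.result hL168).2.2 (a := 24)
    (by rw [hL168]) (by norm_num) (by rw [hidx]; norm_num) (by rw [hcard]; norm_num) (by norm_num) (by norm_num)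
  have hCd := centralizer_card_dvd L hbot
  rw [hL168, hcard] at hCd
  have hC : Nat.card (centralizer (L : Set G)) = 3 := by
    have h1 := (Nat.mul_dvd_mul_iff_left (show 0 < 168 by norm_num)).1 (hCd.trans (by norm_num : 504 ∣ 168 * 3))
    exact Nat.dvd_antisymm h1 h3
  obtain ⟨e, -⟩ := exists_prod_equiv L (centralizer (L : Set G)) hbot (by rw [hL168, hC, hcard])
  obtain ⟨d', hd', h6'⟩ := hmodel L hL168
  have hdG := charDegrees_of_equiv e.symm (charDegrees_prod.2 ⟨d', hd', 1,
    ⟨irrOne, charDegree_one⟩, rfl⟩)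
  exact hadj (adj_of_degree Nat.prime_two Nat.prime_three (by norm_num) hdG (by simpa using h6'))

/-- An invariant character of degree three of a normal simple subgroup of order sixty. -/
theorem false_of_invariant (A : Subgroup G) [A.Normal] [IsSimpleGroup A] (hA : Nat.card A = 60)
    {u : A} (hu : orderOf u = 5) (hconj : ∀ i : Fin 5, i ≠ 0 → ∃ g : G, g * u * g⁻¹ = ((u ^ (i : ℕ) : A) : G))
    (θ : Cfsg.IrrCharacter A) (hinv : ∀ g : G, conjFun A g (θ : A → ℂ) = (θ : A → ℂ))
    (h3 : Cfsg.charDegree (θ : A → ℂ) = 3) : False := by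
  classical
  have hθ1 : (θ : A → ℂ) 1 = 3 := by rw [← coe_charDegree_irr, h3]; norm_num
  have hconst : ∀ i : Fin 5, i ≠ 0 → (θ : A → ℂ) (u ^ (i : ℕ)) = (θ : A → ℂ) u := by
    intro i hi
    obtain ⟨g, hg⟩ := hconj i hi
    rw [← congrFun (hinv g) u, conjFun_apply]
    exact congrArg (θ : A → ℂ) (Subtype.ext hg.symm)
  haveI := Fintype.ofFinite A
  set Q := zpowers u with hQ
  haveI := Fintype.ofFinite Q
  have hQc : Nat.card Q = 5 := by rw [hQ, Nat.card_zpowers, hu]
  obtain ⟨m, hm⟩ := classInner_char_nat (isCharacter_res Q (isCharacter_of_isIrr θ.2))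
    (isCharacter_of_isIrr (irrOne : Cfsg.IrrCharacter Q).2)
  rw [show ((irrOne : Cfsg.IrrCharacter Q) : Q → ℂ) = fun _ => 1 from rfl, classInner_one_right, hQc] at hm
  let ee : Fin 5 → Q := fun i => ⟨u ^ (i : ℕ), pow_mem (mem_zpowers u) _⟩
  have hee : Function.Bijective ee := (Fintype.bijective_iff_injective_and_card ee).2
    ⟨fun i j h => Fin.ext (pow_injOn_Iio_orderOf (by simp [hu]) (by simp [hu]) (congrArg Subtype.val h)),
      by rw [Fintype.card_fin, ← Nat.card_eq_fintype_card, hQc]⟩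
  rw [← hee.sum_comp, Fin.sum_univ_succ, Finset.sum_congr rfl (g := fun _ => (θ : A → ℂ) u)
    (fun i _ => hconst i.succ (Fin.succ_ne_zero i))] at hm
  simp only [ee, Fin.val_zero, pow_zero, hθ1, Finset.sum_const, Finset.card_univ, Fintype.card_fin, nsmul_eq_mul] at hm
  push_cast at hm
  have hv : (θ : A → ℂ) u = (((5 * (m : ℚ) - 3) / 4 : ℚ) : ℂ) := by
    push_cast
    field_simp at hm
    linear_combination hm / 4
  have hint : IsIntegral ℤ ((((5 * (m : ℚ) - 3) / 4 : ℚ)) : ℂ) := hv ▸ char_isIntegral (isCharacter_of_isIrr θ.2) u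
  obtain ⟨z, hz⟩ := exists_int_of_isIntegral_rat hint
  have hz' : (5 * (m : ℤ) - 3) = 4 * z := by
    have : (5 * (m : ℚ) - 3) = 4 * z := by rw [← hz]; ring
    exact_mod_cast this
  -- the multiplicity is at most the degree
  have hm3 : m ≤ 3 := by
    have hsum : (θ : A → ℂ) 1 = ((m : ℂ)) + 4 * ((θ : A → ℂ) 1 - (θ : A → ℂ) u) / 5 := by
      rw [hθ1, hv]; push_cast; ring
    have hre : ((θ : A → ℂ) u).re ≤ 3 := by
      have h1 := norm_char_le (isCharacter_of_isIrr θ.2) u
      rw [hθ1] at h1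
      exact (Complex.re_le_norm _).trans (h1.trans (by norm_num))
    rw [hv, Complex.ratCast_re] at hre
    have : (m : ℚ) ≤ 3 := by
      have h2 : (((5 * (m : ℚ) - 3) / 4 : ℚ) : ℝ) ≤ 3 := hre
      have h3 : ((5 * (m : ℚ) - 3) / 4 : ℚ) ≤ 3 := by exact_mod_cast h2
      linarith
    exact_mod_cast this
  have hm' : m = 3 := by omega
  subst hm'
  have hker : u ∈ charKer (isCharacter_of_isIrr θ.2) := by
    rw [mem_charKer, hθ1, hv]; push_cast; norm_num
  haveI := charKer_normal (isCharacter_of_isIrr θ.2)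
  rcases IsSimpleGroup.eq_bot_or_eq_top_of_normal (charKer (isCharacter_of_isIrr θ.2)) inferInstance with h | h
  · rw [h, mem_bot] at hker
    rw [hker, orderOf_one] at hu
    omega
  · have h1 : ∀ g : A, (θ : A → ℂ) g = 3 := fun g => by
      rw [← hθ1]; exact mem_charKer.1 (h ▸ mem_top g : g ∈ charKer (isCharacter_of_isIrr θ.2))
    have hn := classInner_irr_self θ.2
    rw [classInner_def] at hn
    simp only [h1, map_ofNat, Finset.sum_const, Finset.card_univ, nsmul_eq_mul, ← Nat.card_eq_fintype_card, hA] at hn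
    norm_num at hn

/-- Order 360. -/
theorem false_360 (hcard : Nat.card G = 360) (hns : ¬ IsSimpleGroup G) (h5 : 5 ∈ Cfsg.degreePrimes G)
    (hadj : (Cfsg.degreeGraph G).Adj 2 5) (h23 : ¬ (Cfsg.degreeGraph G).Adj 2 3) : False := by
  classical
  haveI : Fact (Nat.Prime 5) := ⟨by norm_num⟩
  haveI : Fact (Nat.Prime 3) := ⟨Nat.prime_three⟩
  haveI := Fintype.ofFinite G
  by_cases hsol : Group.IsSolvable G
  · rcases solvable_cases (p := 5) (r := 2) (a := 12) (n := 360) (by norm_num) (by norm_num) Nat.prime_two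
      (by norm_num) (by norm_num) (by norm_num) (by decide +kernel) _ G hcard dvd_rfl (by norm_num) hsol with
      h | ⟨S, -, hS, -⟩
    · exact not_mem_of_normal_prime (by rw [hcard]; norm_num) h h5
    · exact absurd ((hS ▸ card_subgroup_dvd_card S).trans (dvd_of_eq hcard)) (by norm_num)
  obtain ⟨-, -, -, d, hd, h10⟩ := hadj
  have hd10 : d = 10 := by
    have h1 := degree_mem_divisors hcard hd
    have key : ∀ d ∈ (360 : ℕ).divisors.filter (fun d => d ^ 2 ≤ 360), d % 10 = 0 → d = 10 := by decide +kernel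
    exact key d h1 (Nat.mod_eq_zero_of_dvd h10)
  subst hd10
  obtain ⟨L, hLn, hperf, hLs⟩ := exists_perfect hsol
  have hLd : Nat.card L ∣ 360 := hcard ▸ card_subgroup_dvd_card L
  have hL60 : 60 ∣ Nat.card L := by
    by_contra h
    refine hLs (solvable_of_orders (Nat.card L) (fun X _ _ _ hX hdX => ?_) _ L rfl dvd_rfl)
    have h1 := (Nat.le_of_dvd Nat.card_pos hdX).trans (Nat.le_of_dvd (by norm_num) hLd)
    rcases Cfsg.Agent.S0496.result hX (by omega) with e | e | e | e | e | e <;> rw [e] at hdX <;>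
      first
        | exact h hdX
        | exact h ((by norm_num : 60 ∣ 360).trans hdX)
        | exact absurd (hdX.trans hLd) (by norm_num)
  have hcases : Nat.card L = 60 ∨ Nat.card L = 120 ∨ Nat.card L = 180 ∨ Nat.card L = 360 := by
    have key : ∀ k ∈ (360 : ℕ).divisors, k % 60 = 0 → k = 60 ∨ k = 120 ∨ k = 180 ∨ k = 360 := by decide +kernel
    exact key _ (Nat.mem_divisors.2 ⟨hLd, by norm_num⟩) (Nat.mod_eq_zero_of_dvd hL60)
  haveI := Fintype.ofFinite L
  obtain ⟨r, hr, hr2, hr5⟩ := CfsgLib.CharNormal.DegreePrimes.exists_prime_ne_ne_of_not_solvable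
    (p := 2) (q := 5) Nat.prime_two (by norm_num) _ L rfl hLs
  obtain ⟨hrp, a, ha, hra⟩ := hr
  have hr3 : r = 3 := by
    have hr' : r ∣ 2 ^ 3 * 3 ^ 2 * 5 := (hra.trans (degree_dvd ha)).trans (hLd.trans (by norm_num))
    rcases hrp.dvd_mul.1 hr' with h | h
    · rcases hrp.dvd_mul.1 h with h | h
      · exact absurd ((Nat.prime_dvd_prime_iff_eq hrp Nat.prime_two).1 (hrp.dvd_of_dvd_pow h)) hr2
      · exact (Nat.prime_dvd_prime_iff_eq hrp Nat.prime_three).1 (hrp.dvd_of_dvd_pow h)
    · exact absurd ((Nat.prime_dvd_prime_iff_eq hrp (by norm_num)).1 h) hr5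
  subst hr3
  rcases hcases with hL | hL | hL | hL
  rotate_left
  · -- order 120
    have hidx : L.index = 3 := by have := L.index_mul_card; rw [hL, hcard] at this; omega
    obtain ⟨χ, hχ⟩ := hd
    have hres := CfsgLib.ThreeDeg.isIrr_res_coprime L χ.2 (by rw [hχ, hidx]; norm_num)
    have h10L : (10 : ℕ) ∈ Cfsg.charDegrees L := ⟨⟨_, hres⟩, by rw [← hχ]; simp [Cfsg.charDegree]⟩
    obtain ⟨φ, hφ⟩ := h10L
    obtain ⟨ψ, hψ⟩ := ha
    have hsum := degree_sq_sum_eq (G := L)
    rw [hL] at hsum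
    have h1 : Cfsg.charDegree ((irrOne : Cfsg.IrrCharacter L) : L → ℂ) = 1 := charDegree_one
    have hne1 : φ ≠ irrOne := fun e => by rw [e, h1] at hφ; norm_num at hφ
    have hne2 : ψ ≠ irrOne := fun e => by
      rw [e, h1] at hψ; rw [← hψ] at hra; norm_num at hra
    have ha' := degree_mem_divisors hL (d := a) ⟨ψ, hψ⟩
    have hne3 : φ ≠ ψ := fun e => by
      rw [← e, hφ] at hψ; rw [← hψ] at hra; norm_num at hra
    set R := (((Finset.univ : Finset (Cfsg.IrrCharacter L)).erase irrOne).erase φ).erase ψ with hR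
    have hsplit : 1 + 10 ^ 2 + a ^ 2 + ∑ χ ∈ R, Cfsg.charDegree (χ : L → ℂ) ^ 2 = 120 := by
      rw [← hsum, ← Finset.add_sum_erase _ _ (Finset.mem_univ (irrOne : Cfsg.IrrCharacter L)),
        ← Finset.add_sum_erase _ _ (Finset.mem_erase.2 ⟨hne1, Finset.mem_univ φ⟩),
        ← Finset.add_sum_erase _ _ (Finset.mem_erase.2 ⟨hne3.symm, Finset.mem_erase.2 ⟨hne2, Finset.mem_univ ψ⟩⟩),
        h1, hφ, hψ]
      ring
    have key : ∀ a ∈ (120 : ℕ).divisors.filter (fun d => d ^ 2 ≤ 120), a % 3 = 0 → 1 + 10 ^ 2 + a ^ 2 ≤ 120 →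
        a = 3 := by decide +kernel
    have ha3 : a = 3 := key a ha' (Nat.mod_eq_zero_of_dvd hra) (by omega)
    subst ha3
    -- ten is not a sum of squares of two and three
    have hterm : ∀ χ ∈ R, Cfsg.charDegree (χ : L → ℂ) = 2 ∨ Cfsg.charDegree (χ : L → ℂ) = 3 := by
      intro χ hχR
      have hle := Finset.single_le_sum (f := fun χ : Cfsg.IrrCharacter L => Cfsg.charDegree (χ : L → ℂ) ^ 2)
        (fun _ _ => Nat.zero_le _) hχR
      have h2 := deg_ne_one_of_perfect hperf χ
        (Finset.mem_erase.1 (Finset.mem_erase.1 (Finset.mem_erase.1 hχR).2).2).1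
      have h3 := charDegree_pos χ.2
      have h4 : Cfsg.charDegree (χ : L → ℂ) ≤ 3 := by nlinarith
      omega
    have hR10 : ∑ χ ∈ R, Cfsg.charDegree (χ : L → ℂ) ^ 2 = 10 := by omega
    rw [← Finset.sum_filter_add_sum_filter_not R (fun χ => Cfsg.charDegree (χ : L → ℂ) = 2),
      Finset.sum_congr rfl (g := fun _ => 4) (fun χ hχ => by rw [(Finset.mem_filter.1 hχ).2]; norm_num),
      Finset.sum_congr (s₁ := R.filter fun (χ : Cfsg.IrrCharacter L) => ¬ Cfsg.charDegree (χ : L → ℂ) = 2) rfl (g := fun _ => 9)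
        (fun χ hχ => by rw [(hterm χ (Finset.mem_filter.1 hχ).1).resolve_left (Finset.mem_filter.1 hχ).2]; norm_num),
      Finset.sum_const, Finset.sum_const, smul_eq_mul, smul_eq_mul] at hR10
    omega
  · -- order 180
    haveI := isSimpleGroup_of_perfect hperf (Or.inl hL)
    have hnc : ¬ IsMulCommutative L := CfsgLib.SmallGroups.not_isMulCommutative_of_not_prime (by rw [hL]; norm_num)
    rcases Cfsg.Agent.S0496.result hnc (by omega) with e | e | e | e | e | e <;> omega
  · -- order 360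
    haveI := isSimpleGroup_of_perfect hperf (Or.inr hL)
    have htop : L = ⊤ := Subgroup.eq_top_of_card_eq L (by rw [hL, hcard])
    exact hns (((MulEquiv.subgroupCongr htop).trans Subgroup.topEquiv).symm.isSimpleGroup)
  -- order 60
  haveI : Nontrivial L := Finite.one_lt_card_iff_nontrivial.1 (by rw [hL]; norm_num)
  haveI hLsimp : IsSimpleGroup L := by
    obtain ⟨M, hMn, hMt, hsimp⟩ := exists_maximal_normal (G := L)
    have hnc : ¬ IsMulCommutative (L ⧸ M) := fun hc => by
      refine hMt (eq_top_iff.2 (hperf ▸ ?_))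
      rw [_root_.commutator_def, commutator_le]
      intro g _ h _
      rw [← QuotientGroup.ker_mk' M, MonoidHom.mem_ker, map_commutatorElement, commutatorElement_eq_one_iff_mul_comm]
      exact mul_comm' _ _
    have hmul := card_eq_index_mul M
    rw [hL] at hmul
    have hle : Nat.card (L ⧸ M) ≤ 60 := Nat.le_of_dvd (by norm_num) (Dvd.intro _ hmul.symm)
    have hq : Nat.card (L ⧸ M) = 60 := by
      rcases Cfsg.Agent.S0496.result hnc (by omega) with e | e | e | e | e | e <;> omega
    have hbot := Subgroup.eq_bot_of_card_eq M (by rw [hq] at hmul; omega)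
    subst hbot
    exact (QuotientGroup.quotientBot (G := L)).symm.isSimpleGroup
  have hnL : ¬ IsMulCommutative L := CfsgLib.SmallGroups.not_isMulCommutative_of_not_prime (by rw [hL]; norm_num)
  have hidx : L.index = 6 := by have := L.index_mul_card; rw [hL, hcard] at this; omega
  have h6 := five_sylow_sixty (A := L) hL
  obtain ⟨h3, hbot⟩ := three_dvd_centralizer L (ℓ := 5) hnL h6 (a := 12)
    (by rw [hL]) (by norm_num) (by rw [hidx]; norm_num) (by rw [hcard]; norm_num) (by norm_num) (by norm_num)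
  set C := centralizer (L : Set G) with hCdef
  have hCd := centralizer_card_dvd L hbot
  rw [hL, hcard, ← hCdef] at hCd
  have hC6 : Nat.card C ∣ 6 := (Nat.mul_dvd_mul_iff_left (show 0 < 60 by norm_num)).1 (hCd.trans (by norm_num))
  have ha6 : a = 3 ∨ a = 6 := by
    have h1 := degree_mem_divisors hL ha
    have key : ∀ a ∈ (60 : ℕ).divisors.filter (fun d => d ^ 2 ≤ 60), a % 3 = 0 → a = 3 ∨ a = 6 := by decide +kernel
    exact key a h1 (Nat.mod_eq_zero_of_dvd hra)
  have hC : Nat.card C = 3 ∨ Nat.card C = 6 := by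
    have key : ∀ c ∈ (6 : ℕ).divisors, c % 3 = 0 → c = 3 ∨ c = 6 := by decide
    exact key _ (Nat.mem_divisors.2 ⟨hC6, by norm_num⟩) (Nat.mod_eq_zero_of_dvd h3)
  rcases hC with hC | hC
  swap
  · obtain ⟨e, -⟩ := exists_prod_equiv L C hbot (by rw [hL, hC, hcard])
    obtain ⟨x, hx, y, hy, hxy⟩ := charDegrees_prod.1 (charDegrees_of_equiv e hd)
    by_cases hcomm : ∀ u v : C, u * v = v * u
    · rw [degree_eq_one_of_comm hcomm hy, mul_one] at hxy
      have := degree_sq_le hx
      rw [← hxy, hL] at this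
      norm_num at this
    · obtain ⟨b, hb, hb1⟩ := exists_degree_ne_one hcomm
      have hbmem := degree_mem_divisors hC hb
      have key : ∀ b ∈ (6 : ℕ).divisors.filter (fun d => d ^ 2 ≤ 6), b ≠ 1 → b = 2 := by decide
      obtain rfl := key b hbmem hb1
      have hG := charDegrees_of_equiv e.symm (charDegrees_prod.2 ⟨a, ha, 2, hb, rfl⟩)
      exact h23 (adj_of_degree Nat.prime_two Nat.prime_three (by norm_num) hG (by
        rw [mul_comm a]; exact Nat.mul_dvd_mul_left 2 hra))
  -- order three: a degree three of `L` is moved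
  obtain ⟨θ, hθ⟩ := ha
  obtain ⟨χ, hχ⟩ := exists_irr_over (G := G) L θ.2
  have hdeg := degree_eq_mul_card_orbit L χ.2 θ hχ
  obtain ⟨m, hm⟩ := classInner_char_nat (isCharacter_res L (isCharacter_of_isIrr χ.2)) (isCharacter_of_isIrr θ.2)
  rw [hm, ← coe_charDegree_irr, ← coe_charDegree_irr, hθ] at hdeg
  have hdeg' : Cfsg.charDegree (χ : G → ℂ) = m * (orbit L θ).card * a := by exact_mod_cast hdeg
  refine h23 (adj_of_degree Nat.prime_two Nat.prime_three (by norm_num) ⟨χ, rfl⟩ ?_)
  rcases ha6 with rfl | rfl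
  swap
  · exact hdeg' ▸ dvd_mul_of_dvd_right (by norm_num) _
  have hI : (orbit L θ).card ∣ 2 := by
    rw [card_orbit_eq_index]
    have hCI : C ≤ inertia L (θ : L → ℂ) := fun c hc => by
      rw [mem_inertia]
      funext n
      rw [conjFun_apply]
      exact congrArg (θ : L → ℂ) (Subtype.ext (by
        show c * (n : G) * c⁻¹ = n
        rw [← mem_centralizer_iff.1 hc n n.2, mul_inv_cancel_right]))
    have hLI := le_inertia L (isClassFunction_of_isIrr θ.2)
    have h180 : 180 ∣ Nat.card (inertia L (θ : L → ℂ)) := by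
      obtain ⟨e, he⟩ : ∃ e, e = Nat.card (inertia L (θ : L → ℂ)) := ⟨_, rfl⟩
      have h := centralizer_card_dvd (G := inertia L (θ : L → ℂ)) (L.subgroupOf _) (by
        rw [eq_bot_iff]
        intro z hz
        have hz' : (z : G) ∈ L ⊓ centralizer (L : Set G) := mem_inf.2 ⟨(mem_inf.1 hz).1,
          mem_centralizer_iff.2 fun b hb => congrArg Subtype.val
            (mem_centralizer_iff.1 (mem_inf.1 hz).2 (⟨b, hLI hb⟩ : inertia L (θ : L → ℂ)) hb)⟩
        rw [hbot, mem_bot] at hz'
        rw [mem_bot]; exact Subtype.ext hz')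
      have hCle : C.subgroupOf (inertia L (θ : L → ℂ)) ≤
          centralizer ((L.subgroupOf (inertia L (θ : L → ℂ)) : Subgroup _) : Set (inertia L (θ : L → ℂ))) :=
        fun c hc => mem_centralizer_iff.2 fun b hb => Subtype.ext (mem_centralizer_iff.1 hc b hb)
      have h2 := (Nat.mul_dvd_mul_left _ (card_dvd_of_le hCle)).trans h
      rw [Nat.card_congr (subgroupOfEquivOfLe hLI).toEquiv, Nat.card_congr (subgroupOfEquivOfLe hCI).toEquiv,
        hL, hC] at h2
      exact h2
    have hmul := (inertia L (θ : L → ℂ)).index_mul_card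
    rw [hcard] at hmul
    exact (Nat.mul_dvd_mul_iff_right (show 0 < 180 by norm_num)).1
      ((Nat.mul_dvd_mul_left _ h180).trans (dvd_of_eq (hmul.trans (by norm_num))))
  rcases (Nat.dvd_prime Nat.prime_two).1 hI with h1 | h2
  swap
  · rw [hdeg', h2]; exact ⟨m, by ring⟩
  exfalso
  have hinv : ∀ g : G, conjFun L g (θ : L → ℂ) = (θ : L → ℂ) := fun g => by
    rw [card_orbit_eq_index, Subgroup.index_eq_one] at h1
    rw [← mem_inertia, h1]; trivial
  -- the elements of order five
  obtain ⟨u, hu⟩ := exists_prime_orderOf_dvd_card' (G := L) 5 (by rw [hL]; norm_num)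
  have hu' : orderOf (u : G) = 5 := by rw [Subgroup.orderOf_coe, hu]
  set Q := zpowers (u : G) with hQdef
  have hQ : Nat.card Q = 5 := by rw [hQdef, Nat.card_zpowers, hu']
  have hGc : Nat.card G = 5 ^ 1 * 72 := by rw [hcard]; norm_num
  obtain ⟨P, hP⟩ := (IsPGroup.of_card (n := 1) (by rw [hQ, pow_one]) : IsPGroup 5 Q).exists_le_sylow
  have hPQ : (P : Subgroup G) = Q := (eq_of_le_of_card_ge hP
    (by rw [hQ, CfsgLib.SmallGroups.card_sylow_eq hGc (by norm_num) P, pow_one])).symm
  have hmulN := CfsgLib.SmallGroups.card_sylow_mul_card_normalizer P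
  rw [card_sylow_of_normal L (by rw [hidx]; norm_num), h6, hPQ, hcard] at hmulN
  have hN60 : Nat.card (normalizer (Q : Set G)) = 60 := by omega
  set D := centralizer (Q : Set G) with hDdef
  have hQD : Q ≤ D := by
    haveI : IsCyclic Q := isCyclic_of_prime_card hQ
    haveI : IsMulCommutative Q := IsCyclic.isMulCommutative
    exact le_centralizer Q
  have hCD : C ≤ D := centralizer_le (fun z hz => zpowers_le.2 u.2 hz)
  have hDN : D ≤ normalizer (Q : Set G) := centralizer_le_normalizer _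
  have h15 : 15 ∣ Nat.card D := by
    refine (show Nat.Coprime 5 3 by norm_num).mul_dvd_of_dvd_of_dvd ?_ ?_
    · exact hQ ▸ card_dvd_of_le hQD
    · exact hC ▸ card_dvd_of_le hCD
  have hodd : ¬ 2 ∣ Nat.card D := by
    intro h
    haveI : Fact (Nat.Prime 2) := ⟨Nat.prime_two⟩
    obtain ⟨z, hz⟩ := exists_prime_orderOf_dvd_card' (G := D) 2 h
    rw [← Subgroup.orderOf_coe] at hz
    have hz2 : (z : G) ^ 2 = 1 := by
      have := pow_orderOf_eq_one (z : G); rwa [hz] at this
    have hmem := centralizes_simple L (ℓ := 5) (s := 2) h6 (by norm_num) (by norm_num) u.2 hu' hz2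
      (mem_centralizer_iff.1 z.2 u (mem_zpowers _))
    have h1 := Subgroup.orderOf_dvd_natCard _ hmem
    rw [hz, ← hCdef, hC] at h1
    norm_num at h1
  have hD15 : Nat.card D = 15 := by
    have h1 := hN60 ▸ card_dvd_of_le hDN
    have key : ∀ d ∈ (60 : ℕ).divisors, d % 15 = 0 → d % 2 ≠ 0 → d = 15 := by decide +kernel
    exact key _ (Nat.mem_divisors.2 ⟨h1, by norm_num⟩) (Nat.mod_eq_zero_of_dvd h15)
      (fun h => hodd (Nat.dvd_of_mod_eq_zero h))
  refine false_of_invariant L hL hu (fun i hi => ?_) θ hinv hθ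
  -- all generators are conjugate
  haveI : IsCyclic Q := isCyclic_of_prime_card hQ
  let f := Q.normalizerMonoidHom
  have hk := f.ker.card_mul_index
  rw [Subgroup.normalizerMonoidHom_ker, Nat.card_congr (subgroupOfEquivOfLe (centralizer_le_normalizer _)).toEquiv,
    ← hDdef, hD15, hN60, ← Subgroup.normalizerMonoidHom_ker, Subgroup.index_ker] at hk
  have hsurj : f.range = ⊤ := by
    refine eq_top_of_card_eq _ ?_
    rw [IsCyclic.card_mulAut Q, hQ, Nat.totient_prime (by norm_num)]
    show Nat.card Q.normalizerMonoidHom.range = _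
    omega
  let w : Q := ⟨(u : G), mem_zpowers _⟩
  have hw : orderOf w = 5 := by rw [← Subgroup.orderOf_coe]; exact hu'
  have hcop : (i : ℕ).Coprime 5 := Nat.Coprime.symm ((by norm_num : Nat.Prime 5).coprime_iff_not_dvd.2
    fun h => hi (Fin.ext (Nat.eq_zero_of_dvd_of_lt h i.2)))
  obtain ⟨n, hn⟩ : powAut hQ hcop ∈ f.range := hsurj ▸ mem_top _
  refine ⟨n, ?_⟩
  have h := congrArg (fun φ : MulAut Q => ((φ w : Q) : G)) hn
  have e1 : ((f n w : Q) : G) = (n : G) * u * (n : G)⁻¹ := rfl
  have e2 : ((powAut hQ hcop w : Q) : G) = (u : G) ^ (i : ℕ) := rfl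
  have e3 : ((u ^ (i : ℕ) : L) : G) = (u : G) ^ (i : ℕ) := rfl
  rw [e3, ← e1, ← e2]
  exact h

end CfsgLib.SmallSimple.Degree6000
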