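import Cfsg.Prelude.Def_DegreeGraph
import Cfsg.Agent.Lib.Char.Ito
import Cfsg.Agent.Lib.Char.Product
import Cfsg.Agent.Lib.Char.ThreeDegreesBasic
import Cfsg.Agent.Lib.CharBlocks.Degree
import Cfsg.Agent.Lib.CharNormal.Kernel
import Cfsg.Agent.Lib.CharNormal.Basic
import Cfsg.Agent.Lib.CharNormal.Linear
import Cfsg.Agent.Lib.CharNormal.DegreePrimes.Three
import Mathlib

/-!
Elementary facts on degrees and the degree graph.
-/

set_option autoImplicit false
set_option linter.style.haveILetI false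

namespace CfsgLib.SmallSimple.Degree6000

open Subgroup CfsgLib.Char CfsgLib.CharBlocks CfsgLib.CharNormal

universe u

variable {G : Type u} [Group G] [Finite G]

theorem degree_sq_sum_eq [Fintype G] :
    ∑ χ : Cfsg.IrrCharacter G, Cfsg.charDegree (χ : G → ℂ) ^ 2 = Nat.card G := by
  have h := sum_degree_sq (G := G)
  simp only [← coe_charDegree_irr] at h
  exact_mod_cast h

theorem degree_sq_le {d : ℕ} (hd : d ∈ Cfsg.charDegrees G) : d ^ 2 ≤ Nat.card G := by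
  classical
  haveI := Fintype.ofFinite G
  obtain ⟨χ, rfl⟩ := hd
  rw [← degree_sq_sum_eq (G := G)]
  exact Finset.single_le_sum (f := fun χ : Cfsg.IrrCharacter G => Cfsg.charDegree (χ : G → ℂ) ^ 2)
    (fun _ _ => Nat.zero_le _) (Finset.mem_univ χ)

theorem degree_dvd {d : ℕ} (hd : d ∈ Cfsg.charDegrees G) : d ∣ Nat.card G := by
  obtain ⟨χ, rfl⟩ := hd
  exact charDegree_dvd_card χ.2

theorem degree_pos' {d : ℕ} (hd : d ∈ Cfsg.charDegrees G) : 0 < d := by
  obtain ⟨χ, rfl⟩ := hd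
  exact charDegree_pos χ.2

theorem degree_mem_divisors {d : ℕ} {n : ℕ} (hn : Nat.card G = n) (hd : d ∈ Cfsg.charDegrees G) :
    d ∈ n.divisors.filter (fun d => d ^ 2 ≤ n) :=
  Finset.mem_filter.2 ⟨Nat.mem_divisors.2 ⟨hn ▸ degree_dvd hd, hn ▸ Nat.card_pos.ne'⟩, hn ▸ degree_sq_le hd⟩

/-- An abelian normal subgroup containing a Sylow subgroup removes the prime. -/
theorem not_mem_degreePrimes {p : ℕ} (S : Subgroup G) [S.Normal] (hc : ∀ u ∈ S, ∀ v ∈ S, u * v = v * u)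
    (hp : ¬ p ∣ S.index) : p ∉ Cfsg.degreePrimes G := by
  rintro ⟨-, d, ⟨χ, rfl⟩, hd⟩
  haveI := Fintype.ofFinite G
  exact hp (hd.trans (degree_dvd_index_abelian_normal S hc χ.2 (coe_charDegree_irr χ).symm))

theorem not_mem_of_normal_prime {p : ℕ} [hp : Fact p.Prime] (hpp : ¬ p ^ 2 ∣ Nat.card G)
    (h : ∃ P : Subgroup G, P.Normal ∧ Nat.card P = p) : p ∉ Cfsg.degreePrimes G := by
  obtain ⟨P, hn, hP⟩ := h
  haveI : IsCyclic P := isCyclic_of_prime_card hP
  refine not_mem_degreePrimes P (fun u hu v hv => congrArg Subtype.val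
    ((IsCyclic.commGroup (α := P)).mul_comm ⟨u, hu⟩ ⟨v, hv⟩)) fun hd => hpp ?_
  rw [← P.card_mul_index, hP, pow_two]
  exact Nat.mul_dvd_mul_left p hd

/-- Degrees of a quotient are degrees. -/
theorem charDegrees_quotient_subset (N : Subgroup G) [N.Normal] :
    Cfsg.charDegrees (G ⧸ N) ⊆ Cfsg.charDegrees G := by
  rintro d ⟨ψ, rfl⟩
  exact ⟨⟨_, isIrr_comp_mk' N ψ.2⟩, by simp [Cfsg.charDegree]⟩

/-- Degrees are invariant under isomorphism. -/
theorem charDegrees_of_equiv {H : Type*} [Group H] [Finite H] (e : G ≃* H) {d : ℕ}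
    (hd : d ∈ Cfsg.charDegrees H) : d ∈ Cfsg.charDegrees G := by
  haveI := Fintype.ofFinite G
  haveI := Fintype.ofFinite H
  obtain ⟨χ, rfl⟩ := hd
  exact ⟨⟨_, isIrr_comp_mulEquiv χ.2 e⟩, by simp [Cfsg.charDegree]⟩

/-- The multiplication isomorphism for two complementary normal subgroups. -/
theorem exists_prod_equiv (A C : Subgroup G) [A.Normal] [C.Normal] (hdis : A ⊓ C = ⊥)
    (hcard : Nat.card A * Nat.card C = Nat.card G) : ∃ e : A × C ≃* G, ∀ a c, e (a, c) = a * c := by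
  have hcom : ∀ (a : A) (c : C), Commute (a : G) c := fun a c =>
    commute_of_normal_of_disjoint A C inferInstance inferInstance (disjoint_iff.2 hdis) a c a.2 c.2
  let f : A × C →* G := MonoidHom.noncommCoprod A.subtype C.subtype hcom
  have hf : Function.Injective f := by
    rw [injective_iff_map_eq_one]
    rintro ⟨a, c⟩ h
    have h' : (a : G) * c = 1 := h
    have ha : (a : G) ∈ A ⊓ C := mem_inf.2 ⟨a.2, by rw [eq_inv_of_mul_eq_one_left h']; exact inv_mem c.2⟩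
    rw [hdis, mem_bot] at ha
    rw [ha, one_mul] at h'
    exact Prod.ext (Subtype.ext ha) (Subtype.ext h')
  exact ⟨MulEquiv.ofBijective f ((Nat.bijective_iff_injective_and_card f).2 ⟨hf, by rw [Nat.card_prod, hcard]⟩),
    fun a c => rfl⟩

/-- Degrees of a direct product. -/
theorem charDegrees_prod {H K : Type*} [Group H] [Finite H] [Group K] [Finite K] {d : ℕ} :
    d ∈ Cfsg.charDegrees (H × K) ↔ ∃ a ∈ Cfsg.charDegrees H, ∃ b ∈ Cfsg.charDegrees K, d = a * b := by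
  haveI := Fintype.ofFinite H
  haveI := Fintype.ofFinite K
  have key : ∀ {φ : H → ℂ} {ψ : K → ℂ}, Cfsg.IsIrrCharacter H φ → Cfsg.IsIrrCharacter K ψ →
      Cfsg.charDegree (fun x : H × K => φ x.1 * ψ x.2) = Cfsg.charDegree φ * Cfsg.charDegree ψ :=
    fun {φ ψ} hφ hψ => charDegree_eq (by
      push_cast
      rw [coe_charDegree (isCharacter_of_isIrr hφ), coe_charDegree (isCharacter_of_isIrr hψ)]; rfl)
  constructor
  · rintro ⟨⟨θ, hθ⟩, rfl⟩
    obtain ⟨φ, ψ, hφ, hψ, rfl⟩ := (isIrr_prod_iff θ).1 hθ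
    exact ⟨_, ⟨⟨φ, hφ⟩, rfl⟩, _, ⟨⟨ψ, hψ⟩, rfl⟩, key hφ hψ⟩
  · rintro ⟨_, ⟨⟨φ, hφ⟩, rfl⟩, _, ⟨⟨ψ, hψ⟩, rfl⟩, rfl⟩
    exact ⟨⟨_, isIrr_prod hφ hψ⟩, key hφ hψ⟩

/-- A commutative group has only the degree one. -/
theorem degree_eq_one_of_comm (hc : ∀ u v : G, u * v = v * u) {d : ℕ} (hd : d ∈ Cfsg.charDegrees G) :
    d = 1 := by
  haveI := Fintype.ofFinite G
  obtain ⟨χ, rfl⟩ := hd
  exact charDegree_eq (by rw [irr_one_of_comm hc χ.2, Nat.cast_one])

/-- A group that is not commutative has a degree other than one. -/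
theorem exists_degree_ne_one (hnc : ¬ ∀ u v : G, u * v = v * u) : ∃ d ∈ Cfsg.charDegrees G, d ≠ 1 := by
  classical
  by_contra h
  push Not at h
  haveI := Fintype.ofFinite G
  refine hnc fun u v => ?_
  have hlin : ∀ χ : Cfsg.IrrCharacter G, (χ : G → ℂ) (u * v) = (χ : G → ℂ) (v * u) := fun χ => by
    have h1 : (χ : G → ℂ) 1 = 1 := by rw [← coe_charDegree_irr, h _ ⟨χ, rfl⟩, Nat.cast_one]
    have h2 : ∀ g, ((linearHom (isCharacter_of_isIrr χ.2) h1 g : ℂˣ) : ℂ) = (χ : G → ℂ) g :=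
      fun g => linearHom_apply (isCharacter_of_isIrr χ.2) h1 g
    rw [← h2, ← h2, map_mul, map_mul, mul_comm]
  have hreg := sum_degree_mul_apply (G := G) ((v * u)⁻¹ * (u * v))
  by_contra hne
  rw [if_neg (fun e => hne (inv_mul_eq_one.1 e).symm)] at hreg
  have h2 : ∀ χ : Cfsg.IrrCharacter G, (χ : G → ℂ) ((v * u)⁻¹ * (u * v)) = 1 := fun χ => by
    have h1 : (χ : G → ℂ) 1 = 1 := by rw [← coe_charDegree_irr, h _ ⟨χ, rfl⟩, Nat.cast_one]
    rw [← linearHom_apply (isCharacter_of_isIrr χ.2) h1, map_mul, map_inv, map_mul, map_mul,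
      mul_comm (linearHom (isCharacter_of_isIrr χ.2) h1 v), inv_mul_cancel, Units.val_one]
  have h3 : ∀ χ : Cfsg.IrrCharacter G, (χ : G → ℂ) 1 = 1 := fun χ => by
    rw [← coe_charDegree_irr, h _ ⟨χ, rfl⟩, Nat.cast_one]
  simp only [h2, h3, mul_one, Finset.sum_const, nsmul_eq_mul, Finset.card_univ] at hreg
  have h4 : Fintype.card (Cfsg.IrrCharacter G) = 0 := by exact_mod_cast hreg
  exact (Fintype.card_pos_iff.2 ⟨(irrOne : Cfsg.IrrCharacter G)⟩).ne' h4

/-- Adjacency from a degree. -/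
theorem adj_of_degree {p q d : ℕ} (hp : p.Prime) (hq : q.Prime) (hne : p ≠ q) (hd : d ∈ Cfsg.charDegrees G)
    (hdvd : p * q ∣ d) : (Cfsg.degreeGraph G).Adj p q := ⟨hne, hp, hq, d, hd, hdvd⟩

end CfsgLib.SmallSimple.Degree6000
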