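import Cfsg.Agent.S3304
import Cfsg.Agent.Lib.GLTwoThree.RootsMain
import Cfsg.Agent.Lib.Invol.ZStarFinal
import Cfsg.Agent.Lib.Cores.Basic
import Cfsg.Agent.Lib.SmallGroups.Basic

/-!
A simple group of order 5616 all whose involution centralizers have order 48, an element of order three
in one of them centralizing six elements of it, is `SL(3,3)`.
-/

set_option autoImplicit false
set_option linter.style.haveILetI false

namespace CfsgLib.SmallSimple.Degree6000.Local5616

open Subgroup

universe u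

section FortyEight

variable {C : Type u} [Group C] [Finite C]

theorem card_sylow_two (hC48 : Nat.card C = 48) (P : Sylow 2 C) : Nat.card (P : Subgroup C) = 16 := by
  have a1 := (Nat.prime_two.pow_dvd_iff_le_factorization (by norm_num : 48 ≠ 0)).1
    (by norm_num : 2 ^ 4 ∣ 48)
  have a2 := mt (Nat.prime_two.pow_dvd_iff_le_factorization (by norm_num : 48 ≠ 0)).2
    (by norm_num : ¬ 2 ^ 5 ∣ 48)
  rw [P.card_eq_multiplicity, hC48, show (48 : ℕ).factorization 2 = 4 by omega]
  norm_num

/-- The structure of a group of order 48 with a central involution, elements of order three having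
centralizers of order six. -/
theorem core_facts (hC48 : Nat.card C = 48) {w : C} (hw : orderOf w = 2) (hwc : ∀ y : C, y * w = w * y)
    (hthree : ∀ z : C, orderOf z = 3 → Nat.card (centralizer ({z} : Set C)) = 6) :
    Nat.card (Cfsg.pCore 2 C) = 8 ∧ centralizer (Cfsg.pCore 2 C : Set C) ≤ Cfsg.pCore 2 C ∧
      (∀ P R : Sylow 2 C, P ≠ R → (P : Subgroup C) ⊓ (R : Subgroup C) = Cfsg.pCore 2 C) ∧
      (∀ P : Sylow 2 C, ¬ (P : Subgroup C).Normal) := by
  haveI : Fact (Nat.Prime 2) := ⟨Nat.prime_two⟩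
  haveI : Fact (Nat.Prime 3) := ⟨Nat.prime_three⟩
  have hSyl := card_sylow_two hC48
  obtain ⟨z, hz⟩ := exists_prime_orderOf_dvd_card' (G := C) 3 (by rw [hC48]; norm_num)
  have hnot : ∀ P : Sylow 2 C, ¬ (P : Subgroup C).Normal := by
    intro P hPn
    haveI := hPn
    let act : MulAction (zpowers z) (P : Subgroup C) :=
      MulAction.compHom _ ((MulAut.conjNormal : C →* MulAut (P : Subgroup C)).comp (zpowers z).subtype)
    have hZp : IsPGroup 3 (zpowers z) :=
      IsPGroup.of_card (n := 1) (by rw [Nat.card_zpowers, hz, pow_one])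
    have hmod := hZp.card_modEq_card_fixedPoints (P : Subgroup C)
    have hfix : Nat.card (MulAction.fixedPoints (zpowers z) (P : Subgroup C)) = 2 := by
      have hP' : w ∈ (P : Subgroup C) := by
        obtain ⟨R, hR⟩ := (IsPGroup.of_card (n := 1) (by rw [Nat.card_zpowers, hw, pow_one]) :
          IsPGroup 2 (zpowers w)).exists_le_sylow
        haveI := Sylow.unique_of_normal P hPn
        exact (Subsingleton.elim R P) ▸ hR (mem_zpowers w)
      let K : Subgroup C := (P : Subgroup C) ⊓ centralizer ({z} : Set C)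
      have hfp : ∀ x : (P : Subgroup C),
          x ∈ MulAction.fixedPoints (zpowers z) (P : Subgroup C) ↔ (x : C) ∈ K := by
        intro x
        constructor
        · intro hx
          refine mem_inf.2 ⟨x.2, mem_centralizer_singleton_iff.2 ?_⟩
          have h2 : z * (x : C) * z⁻¹ = x := congrArg Subtype.val (hx ⟨z, mem_zpowers z⟩)
          exact (mul_inv_eq_iff_eq_mul.1 h2).symm
        · intro hx g
          obtain ⟨g, hg⟩ := g
          refine Subtype.ext ?_
          show g * (x : C) * g⁻¹ = x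
          obtain ⟨n, rfl⟩ := mem_zpowers_iff.1 hg
          rw [mul_inv_eq_iff_eq_mul]
          exact ((show Commute z (x : C) from
            (mem_centralizer_singleton_iff.1 (mem_inf.1 hx).2).symm).zpow_left n).eq
      have hK : Nat.card K = 2 := by
        have d1 : Nat.card K ∣ 16 := hSyl P ▸ Subgroup.card_dvd_of_le inf_le_left
        have d2 : Nat.card K ∣ 6 := hthree z hz ▸ Subgroup.card_dvd_of_le inf_le_right
        have d3 : Nat.card K ∣ 2 := (Nat.dvd_gcd d1 d2).trans (by norm_num)
        have d4 : 2 ∣ Nat.card K := hw ▸ Subgroup.orderOf_dvd_natCard K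
          (mem_inf.2 ⟨hP', mem_centralizer_singleton_iff.2 (hwc z).symm⟩)
        exact Nat.dvd_antisymm d3 d4
      refine Eq.trans ?_ hK
      exact Nat.card_congr
        { toFun := fun x => ⟨x.1.1, (hfp x.1).1 x.2⟩
          invFun := fun y => ⟨⟨y.1, (mem_inf.1 y.2).1⟩, (hfp _).2 y.2⟩
          left_inv := fun x => rfl
          right_inv := fun y => rfl }
    simp only [hfix, hSyl P] at hmod
    exact absurd hmod (by decide)
  have hinter : ∀ P R : Sylow 2 C, P ≠ R →
      ((P : Subgroup C) ⊓ (R : Subgroup C)).Normal ∧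
        Nat.card ((P : Subgroup C) ⊓ (R : Subgroup C) : Subgroup C) = 8 := by
    intro P R hPR
    set D := (P : Subgroup C) ⊓ (R : Subgroup C) with hD
    have hd : Nat.card D ∣ 16 := hSyl P ▸ Subgroup.card_dvd_of_le inf_le_left
    have hlt : Nat.card D ≠ 16 := by
      intro h16
      have e1 : D = (P : Subgroup C) := eq_of_le_of_card_ge inf_le_left (by rw [h16, hSyl P])
      have e2 : D = (R : Subgroup C) := eq_of_le_of_card_ge inf_le_right (by rw [h16, hSyl R])
      exact hPR (Sylow.ext (e1.symm.trans e2))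
    have hge : 5 < Nat.card D := by
      have e1 : (P : Subgroup C).index = 3 := by
        have := (P : Subgroup C).index_mul_card
        rw [hSyl P, hC48] at this
        omega
      have e2 : ((P : Subgroup C).relIndex (R : Subgroup C)) * Nat.card D = 16 := by
        rw [← inf_relIndex_right, ← hD, ← hSyl R]
        have := (D.subgroupOf (R : Subgroup C)).index_mul_card
        rwa [Nat.card_congr (subgroupOfEquivOfLe (inf_le_right : D ≤ (R : Subgroup C))).toEquiv] at this
      have e3 : (P : Subgroup C).relIndex (R : Subgroup C) ≤ 3 :=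
        (relIndex_le_of_le_right le_top (by rw [relIndex_top_right]; omega)).trans
          (by rw [relIndex_top_right, e1])
      nlinarith
    have h8 : Nat.card D = 8 := by
      have hlist : ∀ k ∈ Nat.divisors 16, k ≠ 16 → 5 < k → k = 8 := by decide +kernel
      exact hlist _ (Nat.mem_divisors.2 ⟨hd, by norm_num⟩) hlt hge
    refine ⟨?_, h8⟩
    rw [← normalizer_eq_top_iff]
    have hle : ∀ T : Sylow 2 C, D ≤ (T : Subgroup C) → (T : Subgroup C) ≤ normalizer (D : Set C) := by
      intro T hT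
      have hidx : (D.subgroupOf (T : Subgroup C)).index = 2 := by
        have := (D.subgroupOf (T : Subgroup C)).index_mul_card
        rw [Nat.card_congr (subgroupOfEquivOfLe hT).toEquiv, h8, hSyl T] at this
        omega
      haveI := normal_of_index_eq_two hidx
      exact (normal_subgroupOf_iff_le_normalizer hT).1 inferInstance
    refine eq_top_of_card_eq _ (Nat.dvd_antisymm (card_subgroup_dvd_card _) ?_)
    have hd16 : 16 ∣ Nat.card (normalizer (D : Set C)) := hSyl P ▸ Subgroup.card_dvd_of_le (hle P inf_le_left)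
    have hne16 : Nat.card (normalizer (D : Set C)) ≠ 16 := by
      intro h16
      have e1 := eq_of_le_of_card_ge (hle P inf_le_left) (by rw [h16, hSyl P])
      have e2 := eq_of_le_of_card_ge (hle R inf_le_right) (by rw [h16, hSyl R])
      exact hPR (Sylow.ext (e1.trans e2.symm))
    have hd48 : Nat.card (normalizer (D : Set C)) ∣ 48 := hC48 ▸ card_subgroup_dvd_card _
    have hlist : ∀ k ∈ Nat.divisors 48, 16 ∣ k → k ≠ 16 → k = 48 := by decide +kernel
    rw [hC48, hlist _ (Nat.mem_divisors.2 ⟨hd48, by norm_num⟩) hd16 hne16]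
  obtain ⟨P, R, hPR⟩ : ∃ P R : Sylow 2 C, P ≠ R := by
    obtain ⟨P⟩ : Nonempty (Sylow 2 C) := inferInstance
    by_contra hall
    simp only [not_exists, not_not] at hall
    haveI : Subsingleton (Sylow 2 C) := ⟨hall⟩
    exact hnot P P.normal_of_subsingleton
  have heq : ∀ P R : Sylow 2 C, P ≠ R → (P : Subgroup C) ⊓ (R : Subgroup C) = Cfsg.pCore 2 C := by
    intro P R hPR
    refine le_antisymm (le_sSup ⟨(hinter P R hPR).1, P.isPGroup'.to_le inf_le_left⟩) (le_inf ?_ ?_) <;>
      exact CfsgLib.Cores.pCore_le_sylow _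
  have hcore : Nat.card (Cfsg.pCore 2 C) = 8 := heq P R hPR ▸ (hinter P R hPR).2
  refine ⟨hcore, ?_, heq, hnot⟩
  haveI hAn : (Cfsg.pCore 2 C).Normal := Subgroup.sSup_normal _ fun N hN => hN.1
  refine le_sSup ⟨inferInstance, ?_⟩
  have hd3 : ¬ 3 ∣ Nat.card (centralizer (Cfsg.pCore 2 C : Set C)) := by
    intro hd
    obtain ⟨y, hy⟩ := exists_prime_orderOf_dvd_card' (G := centralizer (Cfsg.pCore 2 C : Set C)) 3 hd
    rw [← Subgroup.orderOf_coe] at hy
    have hle : Cfsg.pCore 2 C ≤ centralizer ({(y : C)} : Set C) := fun a ha =>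
      mem_centralizer_singleton_iff.2 (mem_centralizer_iff.1 y.2 a ha)
    have := Subgroup.card_dvd_of_le hle
    rw [hcore, hthree _ hy] at this
    norm_num at this
  have hdvd : Nat.card (centralizer (Cfsg.pCore 2 C : Set C)) ∣ 2 ^ 4 := by
    refine (Nat.Coprime.dvd_of_dvd_mul_right ?_ (show
      Nat.card (centralizer (Cfsg.pCore 2 C : Set C)) ∣ 2 ^ 4 * 3 by
        rw [show 2 ^ 4 * 3 = 48 by norm_num, ← hC48]; exact card_subgroup_dvd_card _))
    exact ((Nat.prime_three.coprime_iff_not_dvd).2 hd3).symm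
  obtain ⟨k, -, hk⟩ := (Nat.dvd_prime_pow Nat.prime_two).1 hdvd
  exact IsPGroup.of_card hk

end FortyEight

variable {G : Type u} [Group G] [Finite G]

/-- The hypotheses. -/
structure Hyp (G : Type u) [Group G] : Prop where
  card : Nat.card G = 5616
  invol : ∀ t : G, orderOf t = 2 → Nat.card (centralizer ({t} : Set G)) = 48
  three : ∀ t z : G, orderOf t = 2 → orderOf z = 3 → Commute t z →
    Nat.card (centralizer ({t} : Set G) ⊓ centralizer ({z} : Set G) : Subgroup G) = 6

/-- The largest normal `2`-subgroup of the centralizer. -/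
def core (t : G) : Subgroup G :=
  (Cfsg.pCore 2 (centralizer ({t} : Set G))).map (centralizer ({t} : Set G)).subtype

theorem core_le (t : G) : core t ≤ centralizer ({t} : Set G) := map_subtype_le _

theorem mem_core {t : G} {x : centralizer ({t} : Set G)} :
    (x : G) ∈ core t ↔ x ∈ Cfsg.pCore 2 (centralizer ({t} : Set G)) :=
  mem_map_iff_mem (Subgroup.subtype_injective _)

namespace Hyp

variable (H : Hyp G) {t : G} (ht : orderOf t = 2)
include H ht

theorem inner_three {z : centralizer ({t} : Set G)} (hz : orderOf z = 3) :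
    Nat.card (centralizer ({z} : Set (centralizer ({t} : Set G)))) = 6 := by
  rw [← H.three t z ht (by rw [Subgroup.orderOf_coe, hz]) (mem_centralizer_singleton_iff.1 z.2).symm]
  exact Nat.card_congr
    { toFun := fun y => ⟨y.1.1, mem_inf.2 ⟨y.1.2, mem_centralizer_singleton_iff.2
        (congrArg Subtype.val (mem_centralizer_singleton_iff.1 y.2))⟩⟩
      invFun := fun y => ⟨⟨y.1, (mem_inf.1 y.2).1⟩, mem_centralizer_singleton_iff.2
        (Subtype.ext (mem_centralizer_singleton_iff.1 (mem_inf.1 y.2).2))⟩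
      left_inv := fun y => rfl
      right_inv := fun y => rfl }

theorem facts :
    Nat.card (Cfsg.pCore 2 (centralizer ({t} : Set G))) = 8 ∧
      centralizer (Cfsg.pCore 2 (centralizer ({t} : Set G)) : Set (centralizer ({t} : Set G))) ≤
        Cfsg.pCore 2 (centralizer ({t} : Set G)) ∧
      (∀ P R : Sylow 2 (centralizer ({t} : Set G)), P ≠ R →
        (P : Subgroup (centralizer ({t} : Set G))) ⊓ (R : Subgroup (centralizer ({t} : Set G))) =
          Cfsg.pCore 2 (centralizer ({t} : Set G))) ∧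
      (∀ P : Sylow 2 (centralizer ({t} : Set G)), ¬ (P : Subgroup (centralizer ({t} : Set G))).Normal) := core_facts (H.invol t ht)
  (w := ⟨t, mem_centralizer_singleton_iff.2 rfl⟩) (by rw [← Subgroup.orderOf_coe]; exact ht)
  (fun y => Subtype.ext (mem_centralizer_singleton_iff.1 y.2)) (fun _ hz => H.inner_three ht hz)

theorem card_core : Nat.card (core t) = 8 := by
  rw [core, card_map_of_injective (Subgroup.subtype_injective _), (H.facts ht).1]

theorem mem_core_of_commute {g : G} (hg : g * t = t * g) (hc : ∀ y ∈ core t, y * g = g * y) : g ∈ core t := by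
  have hgC : g ∈ centralizer ({t} : Set G) := mem_centralizer_singleton_iff.2 hg
  exact (mem_core (x := ⟨g, hgC⟩)).2 ((H.facts ht).2.1
    (mem_centralizer_iff.2 fun y hy => Subtype.ext (hc y ((mem_core (x := y)).2 hy))))

theorem t_mem_core : t ∈ core t :=
  H.mem_core_of_commute ht rfl fun _ hy => mem_centralizer_singleton_iff.1 (core_le t hy)

theorem core_normalizer : centralizer ({t} : Set G) ≤ normalizer (core t : Set G) := by
  intro g hg
  haveI : (Cfsg.pCore 2 (centralizer ({t} : Set G))).Normal := Subgroup.sSup_normal _ fun N hN => hN.1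
  refine mem_normalizer_fintype fun y hy => ?_
  obtain ⟨y, hy', rfl⟩ := hy
  exact ⟨_, Normal.conj_mem inferInstance y hy' ⟨g, hg⟩, rfl⟩

/-- An involution central in the centralizer of `t` is `t`. -/
theorem eq_of_central {u : G} (hu : orderOf u = 2)
    (hc : centralizer ({u} : Set G) = centralizer ({t} : Set G)) : u = t := by
  haveI : Fact (Nat.Prime 3) := ⟨Nat.prime_three⟩
  obtain ⟨z, hz⟩ := exists_prime_orderOf_dvd_card' (G := centralizer ({t} : Set G)) 3
    (by rw [H.invol t ht]; norm_num)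
  rw [← Subgroup.orderOf_coe] at hz
  have hzt := mem_centralizer_singleton_iff.1 z.2
  have hzu := mem_centralizer_singleton_iff.1 (hc.ge z.2)
  have hut : u ∈ centralizer ({t} : Set G) := hc.le (mem_centralizer_singleton_iff.2 rfl)
  set D := centralizer ({t} : Set G) ⊓ centralizer ({(z : G)} : Set G) with hD
  have h6 : Nat.card D = 6 := H.three t z ht hz hzt.symm
  by_contra hne
  have htt : t * t = 1 := by rw [← pow_two, ← ht, pow_orderOf_eq_one]
  have huu : u * u = 1 := by rw [← pow_two, ← hu, pow_orderOf_eq_one]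
  have htu : u * t = t * u := mem_centralizer_singleton_iff.1 hut
  have htu2 : orderOf (t * u) = 2 := orderOf_eq_prime (by
    rw [pow_two, mul_assoc, ← mul_assoc u, htu, mul_assoc t, huu, mul_one, htt]) fun e => hne (by
    rw [eq_inv_of_mul_eq_one_right e, inv_eq_of_mul_eq_one_right htt])
  haveI : Fact (Nat.Prime 2) := ⟨Nat.prime_two⟩
  have htD : t ∈ D := mem_inf.2 ⟨mem_centralizer_singleton_iff.2 rfl, mem_centralizer_singleton_iff.2 hzt.symm⟩
  have huD : u ∈ D := mem_inf.2 ⟨hut, mem_centralizer_singleton_iff.2 hzu.symm⟩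
  -- a four group in a group of order six
  let F : Subgroup G :=
    { carrier := {1, t, u, t * u}
      one_mem' := by simp
      mul_mem' := by
        intro a b ha hb
        simp only [Set.mem_insert_iff, Set.mem_singleton_iff] at ha hb ⊢
        have e1 : u * (t * u) = t := by rw [← mul_assoc, htu, mul_assoc, huu, mul_one]
        have e2 : t * u * t = u := by rw [mul_assoc, htu, ← mul_assoc, htt, one_mul]
        have e3 : t * u * u = t := by rw [mul_assoc, huu, mul_one]
        have e4 : t * (t * u) = u := by rw [← mul_assoc, htt, one_mul]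
        have e5 : t * u * (t * u) = 1 := by rw [← mul_assoc, e2, huu]
        rcases ha with rfl | rfl | rfl | rfl <;> rcases hb with rfl | rfl | rfl | rfl <;>
          simp [htt, huu, htu, e1, e2, e3, e4, e5]
      inv_mem' := by
        intro a ha
        simp only [Set.mem_insert_iff, Set.mem_singleton_iff] at ha ⊢
        have e5 : t * u * (t * u) = 1 := by
          rw [mul_assoc, ← mul_assoc u, htu, mul_assoc t, huu, mul_one, htt]
        rcases ha with rfl | rfl | rfl | rfl
        · simp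
        · simp [inv_eq_of_mul_eq_one_right htt]
        · simp [inv_eq_of_mul_eq_one_right huu]
        · exact Or.inr (Or.inr (Or.inr (inv_eq_of_mul_eq_one_right e5))) }
  have hF : Nat.card F = 4 := by
    show Nat.card ({1, t, u, t * u} : Set G) = 4
    rw [Nat.card_coe_set_eq]
    have h1 : t ≠ 1 := fun e => by rw [e, orderOf_one] at ht; omega
    have h2 : u ≠ 1 := fun e => by rw [e, orderOf_one] at hu; omega
    have h3 : t * u ≠ 1 := fun e => by rw [e, orderOf_one] at htu2; omega
    rw [Set.ncard_insert_of_notMem (by simp [Ne.symm h1, Ne.symm h2, Ne.symm h3]),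
      Set.ncard_insert_of_notMem (by simp [Ne.symm hne, h2]), Set.ncard_pair (by simp [h1])]
  have hFD : F ≤ D := by
    intro a ha
    rcases (ha : a ∈ ({1, t, u, t * u} : Set G)) with rfl | rfl | rfl | rfl
    exacts [one_mem _, htD, huD, mul_mem htD huD]
  have := card_dvd_of_le hFD
  rw [hF, h6] at this
  norm_num at this

/-- When the core has a second involution it is elementary abelian. -/
theorem sq_eq_one {r : G} (hr : r ∈ core t) (hr2 : orderOf r = 2) (hrt : r ≠ t) :
    ∀ x ∈ core t, x * x = 1 := by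
  classical
  haveI : Fact (Nat.Prime 3) := ⟨Nat.prime_three⟩
  obtain ⟨z, hz⟩ := exists_prime_orderOf_dvd_card' (G := centralizer ({t} : Set G)) 3
    (by rw [H.invol t ht]; norm_num)
  rw [← Subgroup.orderOf_coe] at hz
  have hzt := mem_centralizer_singleton_iff.1 z.2
  set E := core t with hE
  have hzn : zpowers (z : G) ≤ normalizer (E : Set G) := zpowers_le.2 (H.core_normalizer ht z.2)
  let Ω := {x : E // (x : G) * x = 1}
  letI act : MulAction (zpowers (z : G)) Ω :=
    { smul := fun g x => ⟨⟨(g : G) * x.1 * (g : G)⁻¹, (mem_normalizer_iff.1 (hzn g.2) _).1 x.1.2⟩, by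
        show (g : G) * x.1 * (g : G)⁻¹ * ((g : G) * x.1 * (g : G)⁻¹) = 1
        rw [show (g : G) * x.1 * (g : G)⁻¹ * ((g : G) * x.1 * (g : G)⁻¹) =
          (g : G) * ((x.1 : G) * x.1) * (g : G)⁻¹ by group, x.2]; group⟩
      one_smul := fun x => Subtype.ext (Subtype.ext (by show (1 : G) * x.1 * (1 : G)⁻¹ = x.1; group))
      mul_smul := fun g h x => Subtype.ext (Subtype.ext (by
        show ((g : G) * h) * x.1 * ((g : G) * h)⁻¹ = (g : G) * ((h : G) * x.1 * (h : G)⁻¹) * (g : G)⁻¹
        group)) }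
  have hP : IsPGroup 3 (zpowers (z : G)) := IsPGroup.of_card (n := 1) (by rw [Nat.card_zpowers, hz, pow_one])
  have hmod := hP.card_modEq_card_fixedPoints Ω
  have htE : t ∈ E := H.t_mem_core ht
  have htt : t * t = 1 := by rw [← pow_two, ← ht, pow_orderOf_eq_one]
  have ht1 : t ≠ 1 := fun e => by rw [e, orderOf_one] at ht; omega
  -- two fixed points
  have hfix : Nat.card (MulAction.fixedPoints (zpowers (z : G)) Ω) = 2 := by
    rw [Nat.card_eq_two_iff]
    let a : MulAction.fixedPoints (zpowers (z : G)) Ω := ⟨⟨⟨1, one_mem E⟩, mul_one 1⟩, fun g =>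
      Subtype.ext (Subtype.ext (show (g : G) * 1 * (g : G)⁻¹ = 1 by group))⟩
    let b : MulAction.fixedPoints (zpowers (z : G)) Ω := ⟨⟨⟨t, htE⟩, htt⟩, fun g =>
      Subtype.ext (Subtype.ext (show (g : G) * t * (g : G)⁻¹ = t by
        rw [mul_inv_eq_iff_eq_mul]
        exact mem_centralizer_singleton_iff.1 (zpowers_le.2 z.2 g.2)))⟩
    refine ⟨a, b, fun e => ht1 (congrArg (fun y : MulAction.fixedPoints (zpowers (z : G)) Ω => ((y.1.1 : E) : G)) e).symm,
      Set.eq_univ_of_forall fun y => ?_⟩
    have hyz : (z : G) * y.1.1 * (z : G)⁻¹ = y.1.1 :=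
      congrArg (fun w : Ω => ((w.1 : E) : G)) (y.2 ⟨z, mem_zpowers _⟩)
    by_cases h1 : ((y.1.1 : E) : G) = 1
    · exact Or.inl (Subtype.ext (Subtype.ext (Subtype.ext h1)))
    right
    refine Set.mem_singleton_iff.2 (Subtype.ext (Subtype.ext (Subtype.ext ?_)))
    show ((y.1.1 : E) : G) = t
    by_contra hne
    have hD : Nat.card (centralizer ({t} : Set G) ⊓ centralizer ({(z : G)} : Set G) : Subgroup G) = 6 :=
      H.three t z ht hz hzt.symm
    set D := centralizer ({t} : Set G) ⊓ centralizer ({(z : G)} : Set G) with hDdef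
    have hy2 : orderOf ((y.1.1 : E) : G) = 2 := orderOf_eq_prime (by rw [pow_two, y.1.2]) h1
    have hyt := mem_centralizer_singleton_iff.1 (core_le t y.1.1.2)
    let K : Subgroup G := E ⊓ D
    have hyK : ((y.1.1 : E) : G) ∈ K := mem_inf.2 ⟨y.1.1.2, mem_inf.2 ⟨core_le t y.1.1.2,
      mem_centralizer_singleton_iff.2 ((mul_inv_eq_iff_eq_mul.1 hyz).symm)⟩⟩
    have htK : t ∈ K := mem_inf.2 ⟨htE, mem_inf.2 ⟨mem_centralizer_singleton_iff.2 rfl,
      mem_centralizer_singleton_iff.2 hzt.symm⟩⟩
    have hK2 : Nat.card K ∣ 2 := by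
      refine (Nat.dvd_gcd (card_dvd_of_le (inf_le_left : K ≤ E)) (card_dvd_of_le (inf_le_right : K ≤ D))).trans ?_
      rw [H.card_core ht, hD]; norm_num
    haveI := Fintype.ofFinite K
    have hsub : ({⟨1, one_mem K⟩, ⟨t, htK⟩, ⟨_, hyK⟩} : Finset K).card = 3 := by
      rw [Finset.card_insert_of_notMem (by simp [Subtype.ext_iff, Ne.symm ht1, Ne.symm h1]),
        Finset.card_pair (by simp [Subtype.ext_iff, Ne.symm hne])]
    have hle := Finset.card_le_univ ({⟨1, one_mem K⟩, ⟨t, htK⟩, ⟨_, hyK⟩} : Finset K)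
    rw [hsub, ← Nat.card_eq_fintype_card] at hle
    have := Nat.le_of_dvd (by norm_num) hK2
    omega
  -- the translation by `t`
  have heven : 2 ∣ Nat.card Ω := by
    let τ : Equiv.Perm Ω :=
      { toFun := fun x => ⟨⟨t * x.1, mul_mem htE x.1.2⟩, by
          have hc := mem_centralizer_singleton_iff.1 (core_le t x.1.2)
          show t * (x.1 : G) * (t * x.1) = 1
          rw [mul_assoc, ← mul_assoc (x.1 : G), hc, mul_assoc t (x.1 : G), x.2, mul_one, htt]⟩
        invFun := fun x => ⟨⟨t * x.1, mul_mem htE x.1.2⟩, by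
          have hc := mem_centralizer_singleton_iff.1 (core_le t x.1.2)
          show t * (x.1 : G) * (t * x.1) = 1
          rw [mul_assoc, ← mul_assoc (x.1 : G), hc, mul_assoc t (x.1 : G), x.2, mul_one, htt]⟩
        left_inv := fun x => Subtype.ext (Subtype.ext (by show t * (t * x.1) = (x.1 : G); rw [← mul_assoc, htt, one_mul]))
        right_inv := fun x => Subtype.ext (Subtype.ext (by show t * (t * x.1) = (x.1 : G); rw [← mul_assoc, htt, one_mul])) }
    haveI := Fintype.ofFinite Ω
    rw [Nat.card_eq_fintype_card]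
    by_contra hodd
    haveI : Fact (Nat.Prime 2) := ⟨Nat.prime_two⟩
    obtain ⟨x, hx⟩ := Equiv.Perm.exists_fixed_point_of_prime (p := 2) (n := 1) hodd (σ := τ)
      (Equiv.ext fun x => Subtype.ext (Subtype.ext (by
        show t * (t * x.1) = (x.1 : G); rw [← mul_assoc, htt, one_mul])))
    exact ht1 (mul_eq_right.1 (congrArg (fun w : Ω => ((w.1 : E) : G)) hx : t * (x.1 : G) = x.1))
  have hle : Nat.card Ω ≤ 8 := H.card_core ht ▸ Finite.card_subtype_le _
  have hge : 3 ≤ Nat.card Ω := by
    haveI := Fintype.ofFinite Ω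
    let f : Fin 3 → Ω := ![⟨⟨1, one_mem E⟩, mul_one 1⟩, ⟨⟨t, htE⟩, htt⟩,
      ⟨⟨r, hr⟩, by show r * r = 1; rw [← pow_two, ← hr2, pow_orderOf_eq_one]⟩]
    have hf : Function.Injective f := by
      have hr1 : r ≠ 1 := fun e => by rw [e, orderOf_one] at hr2; omega
      intro i j h
      have h' : ((f i).1 : G) = (f j).1 := congrArg (fun w : Ω => ((w.1 : E) : G)) h
      fin_cases i <;> fin_cases j <;>
        simp [f, ht1, hr1, hrt, Ne.symm ht1, Ne.symm hr1, Ne.symm hrt] at h' ⊢
    simpa using Nat.card_le_card_of_injective f hf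
  have h8 : Nat.card Ω = 8 := by
    rw [hfix] at hmod
    have hmod' : Nat.card Ω % 3 = 2 % 3 := hmod
    omega
  intro x hx
  by_contra hne
  have hlt := Finite.card_subtype_lt (p := fun y : E => (y : G) * y = 1) (x := ⟨x, hx⟩) hne
  rw [H.card_core ht] at hlt
  exact absurd h8 (ne_of_lt hlt)

/-- An elementary abelian core determines the centralizer. -/
theorem normalizer_core (hsq : ∀ x ∈ core t, x * x = 1) :
    normalizer (core t : Set G) = centralizer ({t} : Set G) := by
  refine (eq_of_le_of_card_ge (H.core_normalizer ht) (Nat.le_of_dvd (by rw [H.invol t ht]; norm_num) ?_)).symm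
  rw [H.invol t ht]
  set E := core t with hE
  set N := normalizer (E : Set G) with hN
  -- a subgroup of order `p ^ k` fixes an involution of the core
  have key : ∀ (p k : ℕ) [Fact p.Prime] (W : Subgroup G), W ≤ N → Nat.card W = p ^ k → ¬ p ∣ 7 →
      p ^ k ∣ 48 := by
    intro p k _ W hWN hW hp7
    let Ω := {x : E // (x : G) ≠ 1}
    letI act : MulAction W Ω :=
      { smul := fun g x => ⟨⟨(g : G) * x.1 * (g : G)⁻¹, (mem_normalizer_iff.1 (hWN g.2) _).1 x.1.2⟩, fun e =>
          x.2 (conj_eq_one_iff.1 e)⟩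
        one_smul := fun x => Subtype.ext (Subtype.ext (by show (1 : G) * x.1 * (1 : G)⁻¹ = x.1; group))
        mul_smul := fun g h x => Subtype.ext (Subtype.ext (by
          show ((g : G) * h) * x.1 * ((g : G) * h)⁻¹ = (g : G) * ((h : G) * x.1 * (h : G)⁻¹) * (g : G)⁻¹
          group)) }
    have h7 : Nat.card Ω = 7 := by
      haveI := Fintype.ofFinite E
      have e : Nat.card Ω = Nat.card {x : E // x ≠ 1} :=
        Nat.card_congr (Equiv.subtypeEquivRight fun x =>
          not_congr ⟨fun h => Subtype.ext h, fun h => congrArg Subtype.val h⟩)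
      classical
      rw [e, Nat.card_eq_fintype_card, Fintype.card_subtype_compl, Fintype.card_subtype_eq,
        ← Nat.card_eq_fintype_card, H.card_core ht]
    obtain ⟨x, hx⟩ := (IsPGroup.of_card hW : IsPGroup p W).nonempty_fixed_point_of_prime_not_dvd_card Ω
      (h7.symm ▸ hp7)
    have hx2 : orderOf ((x.1 : E) : G) = 2 :=
      orderOf_eq_prime (by rw [pow_two]; exact hsq _ x.1.2) x.2
    have hle : W ≤ centralizer ({((x.1 : E) : G)} : Set G) := fun g hg => mem_centralizer_singleton_iff.2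
      (mul_inv_eq_iff_eq_mul.1 (congrArg (fun w : Ω => ((w.1 : E) : G)) (hx ⟨g, hg⟩)))
    have := card_dvd_of_le hle
    rwa [hW, H.invol _ hx2] at this
  have hdvd : Nat.card N ∣ 2 ^ 4 * (3 ^ 3 * 13) := by
    rw [show 2 ^ 4 * (3 ^ 3 * 13) = 5616 by norm_num, ← H.card]; exact card_subgroup_dvd_card N
  have h13 : ¬ 13 ∣ Nat.card N := by
    intro h
    haveI : Fact (Nat.Prime 13) := ⟨by norm_num⟩
    obtain ⟨y, hy⟩ := exists_prime_orderOf_dvd_card' (G := N) 13 h
    rw [← Subgroup.orderOf_coe] at hy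
    have := key 13 1 (zpowers (y : G)) (zpowers_le.2 y.2) (by rw [Nat.card_zpowers, hy, pow_one]) (by norm_num)
    norm_num at this
  have h9 : ¬ 3 ^ 2 ∣ Nat.card N := by
    intro h
    haveI : Fact (Nat.Prime 3) := ⟨Nat.prime_three⟩
    obtain ⟨W, hW⟩ := Sylow.exists_subgroup_card_pow_prime 3 h
    have := key 3 2 (W.map N.subtype) (map_subtype_le _)
      (by rw [card_map_of_injective N.subtype_injective, hW]) (by norm_num)
    norm_num at this
  have h1 : Nat.card N ∣ 2 ^ 4 * 3 ^ 3 := by
    refine (Nat.Coprime.dvd_of_dvd_mul_right ?_ (by rwa [← mul_assoc] at hdvd))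
    exact ((by norm_num : Nat.Prime 13).coprime_iff_not_dvd.2 h13).symm
  have key2 : ∀ d ∈ (432 : ℕ).divisors, d % 9 ≠ 0 → d ∣ 48 := by decide +kernel
  exact key2 _ (Nat.mem_divisors.2 ⟨h1, by norm_num⟩) fun h => h9 (Nat.dvd_of_mod_eq_zero h)

end Hyp

/-- The core contains one involution. -/
theorem Hyp.eq_of_mem_core (H : Hyp G) {t : G} (ht : orderOf t = 2) {r : G} (hr : r ∈ core t)
    (hr2 : orderOf r = 2) : r = t := by
  classical
  by_contra hrt
  haveI : Fact (Nat.Prime 2) := ⟨Nat.prime_two⟩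
  have hsq := H.sq_eq_one ht hr hr2 hrt
  set E := core t with hE
  have habel : ∀ a ∈ E, ∀ b ∈ E, a * b = b * a := fun a ha b hb => by
    have h1 := hsq _ (mul_mem ha hb)
    calc a * b = a * (a * b * (a * b)) * b := by rw [h1, mul_one]
      _ = a * a * (b * a) * (b * b) := by group
      _ = b * a := by rw [hsq a ha, hsq b hb, one_mul, mul_one]
  obtain ⟨P⟩ : Nonempty (Sylow 2 (centralizer ({t} : Set G))) := inferInstance
  set S := (P : Subgroup (centralizer ({t} : Set G))).map (centralizer ({t} : Set G)).subtype with hSdef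
  have hS16 : Nat.card S = 16 := by
    rw [card_map_of_injective (Subgroup.subtype_injective _), card_sylow_two (H.invol t ht) P]
  have hES : E ≤ S := map_mono (CfsgLib.Cores.pCore_le_sylow P)
  have hSC : S ≤ centralizer ({t} : Set G) := map_subtype_le _
  obtain ⟨x, hxS, hxE⟩ : ∃ x ∈ S, x ∉ E := by
    by_contra h
    push Not at h
    have := Subgroup.card_le_of_le (show S ≤ E from h)
    rw [hS16, H.card_core ht] at this
    omega
  have hidx : (E.subgroupOf S).index = 2 := by
    have := (E.subgroupOf S).index_mul_card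
    rw [Nat.card_congr (subgroupOfEquivOfLe hES).toEquiv, H.card_core ht, hS16] at this
    omega
  have hprod : ∀ a ∈ S, ∀ b ∈ S, a ∉ E → b ∉ E → a * b ∈ E := by
    intro a ha b hb hna hnb
    have h := mul_mem_iff_of_index_two hidx (a := ⟨a, ha⟩) (b := ⟨b, hb⟩)
    simp only [mem_subgroupOf] at h
    exact h.2 (iff_of_false hna hnb)
  have hxn : x ∈ normalizer (E : Set G) := H.core_normalizer ht (hSC hxS)
  have hconj : ∀ a ∈ E, x * a * x⁻¹ ∈ E := fun a ha => (mem_normalizer_iff.1 hxn a).1 ha
  set Z := E ⊓ centralizer ({x} : Set G) with hZdef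
  have hx2 : x * x ∈ E := hprod x hxS x hxS hxE hxE
  have htwice : ∀ a ∈ E, x * (x * a * x⁻¹) * x⁻¹ = a := fun a ha => by
    rw [show x * (x * a * x⁻¹) * x⁻¹ = x * x * a * (x * x)⁻¹ by group, habel _ hx2 a ha, mul_inv_cancel_right]
  have hZ4 : Nat.card Z = 4 := by
    let f : E →* E := MonoidHom.mk' (fun a => ⟨x * a * x⁻¹ * a, mul_mem (hconj a a.2) a.2⟩) (fun a b => by
      refine Subtype.ext ?_
      show x * ((a : G) * b) * x⁻¹ * ((a : G) * b) = x * a * x⁻¹ * a * (x * b * x⁻¹ * b)
      calc x * ((a : G) * b) * x⁻¹ * ((a : G) * b) = x * a * x⁻¹ * ((x * b * x⁻¹) * a) * b := by group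
        _ = x * a * x⁻¹ * (a * (x * b * x⁻¹)) * b := by rw [habel _ (hconj b b.2) a a.2]
        _ = _ := by group)
    have hker : f.ker = Z.subgroupOf E := by
      ext a
      rw [MonoidHom.mem_ker, mem_subgroupOf, mem_inf, mem_centralizer_singleton_iff, Subtype.ext_iff]
      show x * (a : G) * x⁻¹ * a = 1 ↔ _
      rw [mul_eq_one_iff_eq_inv, inv_eq_of_mul_eq_one_right (hsq a a.2), mul_inv_eq_iff_eq_mul]
      exact ⟨fun h => ⟨a.2, h.symm⟩, fun h => h.2.symm⟩
    have hrange : f.range.map E.subtype ≤ Z := by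
      rintro _ ⟨-, ⟨a, rfl⟩, rfl⟩
      refine mem_inf.2 ⟨(f a).2, mem_centralizer_singleton_iff.2 ?_⟩
      show x * (a : G) * x⁻¹ * a * x = x * (x * (a : G) * x⁻¹ * a)
      refine (mul_inv_eq_iff_eq_mul.1 ?_).symm
      calc x * (x * (a : G) * x⁻¹ * a) * x⁻¹ = x * (x * (a : G) * x⁻¹) * x⁻¹ * (x * a * x⁻¹) := by group
        _ = _ := by rw [htwice a a.2, habel _ a.2 _ (hconj a a.2)]
    have h := f.ker.card_mul_index
    rw [Subgroup.index_ker, hker, Nat.card_congr (subgroupOfEquivOfLe (inf_le_left : Z ≤ E)).toEquiv,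
      H.card_core ht] at h
    have h2 : Nat.card f.range ∣ Nat.card Z :=
      (card_map_of_injective E.subtype_injective (K := f.range)).symm.dvd.trans (card_dvd_of_le hrange)
    have h3 : Nat.card Z ∣ 8 := H.card_core ht ▸ card_dvd_of_le inf_le_left
    have h4 : Nat.card Z ≠ 8 := by
      intro h8
      refine hxE (H.mem_core_of_commute ht (mem_centralizer_singleton_iff.1 (hSC hxS)) fun y hy => ?_)
      have : Z = E := eq_of_le_of_card_ge inf_le_left (by rw [h8, H.card_core ht])
      exact mem_centralizer_singleton_iff.1 (mem_inf.1 (this.symm ▸ hy : y ∈ Z)).2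
    have key : ∀ d ∈ (8 : ℕ).divisors, d ≠ 8 → ∀ e ∈ (8 : ℕ).divisors, d * e = 8 → e ∣ d → d = 4 := by
      decide
    refine key _ (Nat.mem_divisors.2 ⟨h3, by norm_num⟩) h4 _ ?_ h h2
    exact Nat.mem_divisors.2 ⟨h ▸ dvd_mul_left _ _, by norm_num⟩
  have htZ : t ∈ Z := mem_inf.2 ⟨H.t_mem_core ht,
    mem_centralizer_singleton_iff.2 (mem_centralizer_singleton_iff.1 (hSC hxS)).symm⟩
  have hZcentral : ∀ a ∈ Z, ∀ s ∈ S, s * a = a * s := by
    intro a ha s hs
    by_cases hsE : s ∈ E
    · exact habel s hsE a (mem_inf.1 ha).1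
    · have h1 : x * s ∈ E := hprod x hxS s hs hxE hsE
      have h2 := habel _ h1 a (mem_inf.1 ha).1
      have h3 := mem_centralizer_singleton_iff.1 (mem_inf.1 ha).2
      refine mul_left_cancel (a := x) ?_
      rw [← mul_assoc, h2, ← mul_assoc, h3, mul_assoc]
  -- data for each involution of `Z`
  have hdata : ∀ v ∈ Z, v ≠ 1 → core v ≤ S ∧ Z ≤ core v ∧ (∀ a ∈ core v, a * a = 1) ∧ orderOf v = 2 := by
    intro v hv hv1
    have hv2 : orderOf v = 2 := orderOf_eq_prime (by rw [pow_two]; exact hsq v (mem_inf.1 hv).1) hv1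
    have hSv : S ≤ centralizer ({v} : Set G) := fun s hs => mem_centralizer_singleton_iff.2 (hZcentral v hv s hs)
    obtain ⟨R, hR⟩ := (IsPGroup.of_card (n := 4) (by
      rw [Nat.card_congr (subgroupOfEquivOfLe hSv).toEquiv, hS16]; norm_num) :
      IsPGroup 2 (S.subgroupOf (centralizer ({v} : Set G)))).exists_le_sylow
    have hSR : S.subgroupOf (centralizer ({v} : Set G)) = (R : Subgroup _) := eq_of_le_of_card_ge hR (by
      rw [card_sylow_two (H.invol v hv2) R, Nat.card_congr (subgroupOfEquivOfLe hSv).toEquiv, hS16])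
    have hcS : core v ≤ S := by
      rintro _ ⟨a, ha, rfl⟩
      have := CfsgLib.Cores.pCore_le_sylow R ha
      rw [← hSR] at this
      exact this
    have hZc : Z ≤ core v := fun a ha => H.mem_core_of_commute hv2 (hZcentral v hv a (hES (mem_inf.1 ha).1))
      fun y hy => hZcentral a ha y (hcS hy)
    refine ⟨hcS, hZc, ?_, hv2⟩
    by_cases hvt : v = t
    · rw [hvt]; exact hsq
    · exact H.sq_eq_one hv2 (hZc htZ) ht fun e => hvt e.symm
  have hinj : ∀ v ∈ Z, v ≠ 1 → ∀ v' ∈ Z, v' ≠ 1 → core v = core v' → v = v' := by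
    intro v hv hv1 v' hv' hv1' he
    obtain ⟨-, -, hs, hv2⟩ := hdata v hv hv1
    obtain ⟨-, -, hs', hv2'⟩ := hdata v' hv' hv1'
    refine H.eq_of_central hv2' hv2 ?_
    rw [← H.normalizer_core hv2 hs, ← H.normalizer_core hv2' hs', he]
  obtain ⟨v, hv, hv1, hvt⟩ : ∃ v ∈ Z, v ≠ 1 ∧ v ≠ t := by
    by_contra h
    push Not at h
    haveI := Fintype.ofFinite Z
    have hsub : (Finset.univ : Finset Z) ⊆ {⟨1, one_mem Z⟩, ⟨t, htZ⟩} := fun a _ => by
      rw [Finset.mem_insert, Finset.mem_singleton]
      by_cases h1 : (a : G) = 1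
      · exact Or.inl (Subtype.ext h1)
      · exact Or.inr (Subtype.ext (h a a.2 h1))
    have := (Finset.card_le_card hsub).trans Finset.card_le_two
    rw [Finset.card_univ, ← Nat.card_eq_fintype_card, hZ4] at this
    omega
  have htv1 : t * v ≠ 1 := fun e => hvt (by
    rw [eq_inv_of_mul_eq_one_right e, inv_eq_of_mul_eq_one_right (hsq t (H.t_mem_core ht))])
  have ht1 : t ≠ 1 := fun e => by rw [e, orderOf_one] at ht; omega
  have htvt : t * v ≠ t := fun e => hv1 (mul_eq_left.1 e)
  have hvtv : v ≠ t * v := fun e => ht1 (mul_eq_right.1 e.symm)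
  have htv : t * v ∈ Z := mul_mem htZ hv
  obtain ⟨hvS, hZv, hsv, -⟩ := hdata v hv hv1
  obtain ⟨hwS, hZw, hsw, hw2⟩ := hdata (t * v) htv htv1
  have hne : core v ≠ E := fun e => hvt (hinj v hv hv1 t htZ ht1 (e.trans hE))
  have hneq : core v ≠ core (t * v) := fun e => hvtv (hinj v hv hv1 _ htv htv1 e)
  have hcv : Nat.card (core v) = 8 := H.card_core (hdata v hv hv1).2.2.2
  obtain ⟨y, hy, hyE⟩ : ∃ y ∈ core v, y ∉ E := by
    by_contra h
    push Not at h
    exact hne (eq_of_le_of_card_ge (show core v ≤ E from h) (by rw [hcv, H.card_core ht]))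
  refine hneq (eq_of_le_of_card_ge (fun y' hy' => ?_) (by rw [hcv, H.card_core hw2])).symm
  have hcomm : ∀ a ∈ core (t * v), ∀ b ∈ core (t * v), a * b = b * a := fun a ha b hb => by
    have h1 := hsw _ (mul_mem ha hb)
    calc a * b = a * (a * b * (a * b)) * b := by rw [h1, mul_one]
      _ = a * a * (b * a) * (b * b) := by group
      _ = b * a := by rw [hsw a ha, hsw b hb, one_mul, mul_one]
  -- an element of `S` off `E` commutes only with `Z` in `E`
  have hfix : ∀ s ∈ S, s ∉ E → ∀ a ∈ E, s * a = a * s → a ∈ Z := by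
    intro s hs hsE a ha hsa
    refine mem_inf.2 ⟨ha, mem_centralizer_singleton_iff.2 ?_⟩
    have h1 : x * s ∈ E := hprod x hxS s hs hxE hsE
    have h2 := habel _ h1 a ha
    rw [mul_assoc, hsa, ← mul_assoc, ← mul_assoc] at h2
    exact (mul_right_cancel h2).symm
  by_cases hy'E : y' ∈ E
  · -- `E ⊓ core (t v) = Z`
    refine hZv ?_
    obtain ⟨z', hz', hz'E⟩ : ∃ z' ∈ core (t * v), z' ∉ E := by
      by_contra h
      push Not at h
      exact htvt (hinj _ htv htv1 t htZ ht1
        ((eq_of_le_of_card_ge (show core (t * v) ≤ E from h) (by rw [H.card_core hw2, H.card_core ht])).trans hE))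
    exact hfix z' (hwS hz') hz'E y' hy'E (hcomm z' hz' y' hy')
  · have he : y * y' ∈ E := hprod y (hvS hy) y' (hwS hy') hyE hy'E
    have hyy := hsv y hy
    have hy'y' := hsw y' hy'
    have hye : y * (y * y') = (y * y') * y := by
      have h1 := hsq _ he
      have h2 : y * y' = y' * y := by
        calc y * y' = y * (y * y' * (y * y')) * y' := by rw [h1, mul_one]
          _ = (y * y) * (y' * y) * (y' * y') := by group
          _ = y' * y := by rw [hyy, hy'y', one_mul, mul_one]
      rw [← mul_assoc, hyy, one_mul, mul_assoc, ← h2, ← mul_assoc, hyy, one_mul]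
    have hZy := hfix y (hvS hy) hyE _ he hye
    have : y' = y * (y * y') := by rw [← mul_assoc, hyy, one_mul]
    rw [this]
    exact mul_mem hy (hZv hZy)

/-- The recognition. -/
theorem Hyp.nonempty_equiv [IsSimpleGroup G] (H : Hyp G) :
    Nonempty (Matrix.SpecialLinearGroup (Fin 3) (ZMod 3) ≃* G) := by
  haveI : Fact (Nat.Prime 2) := ⟨Nat.prime_two⟩
  obtain ⟨t, ht⟩ := exists_prime_orderOf_dvd_card' (G := G) 2 (by rw [H.card]; norm_num)
  obtain ⟨-, hcen, heq, hnot⟩ := H.facts ht
  set C := centralizer ({t} : Set G) with hC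
  have hu : ∀ P R : Sylow 2 C, P ≠ R → ∀ x y, x ∈ (P : Subgroup C) ⊓ (R : Subgroup C) →
      y ∈ (P : Subgroup C) ⊓ (R : Subgroup C) → orderOf x = 2 → orderOf y = 2 → x ∈ zpowers y := by
    intro P R hPR x y hx hy hx2 hy2
    rw [heq P R hPR] at hx hy
    have h1 := H.eq_of_mem_core ht (mem_core.2 hx) (by rw [Subgroup.orderOf_coe, hx2])
    have h2 := H.eq_of_mem_core ht (mem_core.2 hy) (by rw [Subgroup.orderOf_coe, hy2])
    rw [show x = y from Subtype.ext (h1.trans h2.symm)]
    exact mem_zpowers _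
  rcases Cfsg.Agent.S3304.main C hcen hu with ⟨P, hP⟩ | ⟨⟨ec⟩⟩ | ⟨-, -, -, hQ⟩
  · exact absurd hP (hnot P)
  · obtain ⟨ψ, hψ, -⟩ := CfsgLib.GLTwoThree.exists_loc ht ec
    exact CfsgLib.GLTwoThree.nonempty_equiv_SL hψ (CfsgLib.GLTwoThree.oneClass_simple hψ) H.card
  exfalso
  have hna : ¬ IsMulCommutative G := CfsgLib.SmallGroups.not_isMulCommutative_of_not_prime
    (by rw [H.card]; norm_num)
  let w : C := ⟨t, mem_centralizer_singleton_iff.2 rfl⟩
  have honly : ∀ r : C, orderOf r = 2 → r = w := by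
    intro r hr
    obtain ⟨P, hP⟩ := (IsPGroup.of_card (n := 1) (by rw [Nat.card_zpowers, hr, pow_one]) :
      IsPGroup 2 (zpowers r)).exists_le_sylow
    have hwP : w ∈ (P : Subgroup C) := CfsgLib.Cores.pCore_le_sylow P (mem_core.1 (H.t_mem_core ht))
    obtain ⟨eP⟩ := hQ P
    have hQ2 : ∀ a : QuaternionGroup 4, a * a = 1 → a = 1 ∨ a = QuaternionGroup.a 4 := by decide +kernel
    have hsame : ∀ s : C, ∀ hs : s ∈ (P : Subgroup C), orderOf s = 2 → eP ⟨s, hs⟩ = QuaternionGroup.a 4 := by
      intro s hs hs2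
      refine (hQ2 _ ?_).resolve_left fun h => ?_
      · rw [← map_mul, show (⟨s, hs⟩ : (P : Subgroup C)) * ⟨s, hs⟩ = 1 from Subtype.ext (by
          show s * s = 1
          rw [← pow_two, ← hs2, pow_orderOf_eq_one]), map_one]
      · have h1 : s = 1 := congrArg Subtype.val (eP.injective (h.trans (map_one eP).symm))
        rw [h1, orderOf_one] at hs2
        omega
    exact congrArg Subtype.val (eP.injective ((hsame r (hP (mem_zpowers r)) hr).trans
      (hsame w hwP (by rw [← Subgroup.orderOf_coe]; exact ht)).symm))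
  have hiso : Cfsg.IsIsolatedInvolution t := by
    refine ⟨ht, fun g hc => ?_⟩
    have hmem : g * t * g⁻¹ ∈ C := mem_centralizer_singleton_iff.2 hc.eq.symm
    exact congrArg Subtype.val (honly ⟨_, hmem⟩ (by
      rw [← Subgroup.orderOf_coe]; exact ((MulAut.conj g).orderOf_eq t).trans ht))
  haveI : (Cfsg.oddCore G).Normal := by
    haveI := CfsgLib.Cores.pPrimeCore_characteristic (G := G) 2
    exact (inferInstance : (Cfsg.pPrimeCore 2 G).Normal)
  have hO : Cfsg.oddCore G = ⊥ := by
    refine (IsSimpleGroup.eq_bot_or_eq_top_of_normal _ inferInstance).resolve_right fun h => ?_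
    have h2 := CfsgLib.Cores.not_dvd_card_pPrimeCore (G := G) 2
    rw [show Cfsg.pPrimeCore 2 G = ⊤ from h, card_top] at h2
    exact h2 (ht ▸ _root_.orderOf_dvd_natCard t)
  have hZ := CfsgLib.Invol.zstar_center hiso hO
  rw [CfsgLib.SmallGroups.eq_bot_or_comm_of_centre hna, mem_bot] at hZ
  rw [hZ, orderOf_one] at ht
  omega

end CfsgLib.SmallSimple.Degree6000.Local5616
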