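import Cfsg.Agent.S0494
import Cfsg.Agent.S0495
import Cfsg.Agent.S0497
import Cfsg.Agent.S0498
import Cfsg.Agent.S0981
import Cfsg.Agent.S0984
import Cfsg.Agent.S1011
import Cfsg.Agent.S1020
import Cfsg.Agent.S1021
import Cfsg.Agent.S4774
import Cfsg.Agent.S4812
import Cfsg.Agent.Lib.Classical.Dickson.MinIndex
import Cfsg.Agent.Lib.Classical.Dickson.MinimalSimple
import Cfsg.Agent.Lib.Char.SmallPermChars
import Cfsg.Agent.Lib.SmallSimple.Degree6000.Facts

/-!
The simple groups of order below 6000 other than that of order 5616: uniqueness and facts on degrees.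
-/

set_option autoImplicit false
set_option linter.style.haveILetI false

namespace CfsgLib.SmallSimple.Degree6000

open Matrix

universe u v

instance factPrime7 : Fact (Nat.Prime 7) := ⟨by norm_num⟩
instance factPrime11 : Fact (Nat.Prime 11) := ⟨by norm_num⟩
instance factPrime13 : Fact (Nat.Prime 13) := ⟨by norm_num⟩
instance factPrime17 : Fact (Nat.Prime 17) := ⟨by norm_num⟩
instance factPrime19 : Fact (Nat.Prime 19) := ⟨by norm_num⟩

theorem exists_field_nine : ∃ (F : Type) (_ : Field F) (_ : Fintype F), Fintype.card F = 9 := by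
  haveI : Fact (Nat.Prime 3) := ⟨Nat.prime_three⟩
  letI := Fintype.ofFinite (GaloisField 3 2)
  refine ⟨GaloisField 3 2, inferInstance, inferInstance, ?_⟩
  rw [← Nat.card_eq_fintype_card, GaloisField.card 3 2 two_ne_zero]; norm_num

theorem exists_field_two_pow (k : ℕ) (hk : k ≠ 0) :
    ∃ (F : Type) (_ : Field F) (_ : Fintype F) (_ : CharP F 2), Fintype.card F = 2 ^ k := by
  haveI : Fact (Nat.Prime 2) := ⟨Nat.prime_two⟩
  letI := Fintype.ofFinite (GaloisField 2 k)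
  exact ⟨GaloisField 2 k, inferInstance, inferInstance, inferInstance,
    by rw [← Nat.card_eq_fintype_card, GaloisField.card 2 k hk]⟩

/-- A simple group of order 360 is `PSL(2,9)`. -/
theorem iso_psl_nine {S : Type u} [Group S] [Finite S] [IsSimpleGroup S] (h : Nat.card S = 360) {F : Type}
    [Field F] [Fintype F] (hF : Fintype.card F = 9) :
    Nonempty (S ≃* ProjectiveSpecialLinearGroup (Fin 2) F) := by
  haveI := (CfsgLib.Classical.Dickson.noncomm_of_four_le hF (by norm_num)).1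
  have hc := CfsgLib.Classical.Dickson.gcd_mul_card_PSL hF
  have hcard : Nat.card (ProjectiveSpecialLinearGroup (Fin 2) F) = 360 := by
    norm_num at hc; omega
  obtain ⟨e1⟩ := Cfsg.Agent.S0497.result h
  obtain ⟨e2⟩ := Cfsg.Agent.S0497.result hcard
  exact ⟨e1.trans e2.symm⟩

/-- The known orders except 5616. -/
def IsListed (n : ℕ) : Prop :=
  n = 60 ∨ n = 168 ∨ n = 360 ∨ n = 504 ∨ n = 660 ∨ n = 1092 ∨ n = 2448 ∨ n = 2520 ∨ n = 3420 ∨ n = 4080

/-- Simple groups of the same listed order are isomorphic. -/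
theorem nonempty_iso {G : Type u} [Group G] [Finite G] [IsSimpleGroup G] {S : Type v} [Group S] [Finite S]
    [IsSimpleGroup S] {n : ℕ} (hn : IsListed n) (hG : Nat.card G = n) (hS : Nat.card S = n) :
    Nonempty (G ≃* S) := by
  rcases hn with rfl | rfl | rfl | rfl | rfl | rfl | rfl | rfl | rfl | rfl
  · exact (Cfsg.Agent.S0494.result hG).elim fun a => (Cfsg.Agent.S0494.result hS).elim fun b => ⟨a.trans b.symm⟩
  · exact (Cfsg.Agent.S0495.result hG (ZMod.card 7)).elim fun a =>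
      (Cfsg.Agent.S0495.result hS (ZMod.card 7)).elim fun b => ⟨a.trans b.symm⟩
  · exact (Cfsg.Agent.S0497.result hG).elim fun a => (Cfsg.Agent.S0497.result hS).elim fun b => ⟨a.trans b.symm⟩
  · obtain ⟨F, _, _, _, hF⟩ := exists_field_two_pow 3 (by norm_num)
    exact (Cfsg.Agent.S1011.result hG (F := F) (by rw [hF]; norm_num)).elim fun a =>
      (Cfsg.Agent.S1011.result hS (F := F) (by rw [hF]; norm_num)).elim fun b => ⟨a.trans b.symm⟩
  · exact (Cfsg.Agent.S0498.result 11 (Or.inl rfl) (by rw [hG]; norm_num) (ZMod.card 11)).elim fun a =>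
      (Cfsg.Agent.S0498.result 11 (Or.inl rfl) (by rw [hS]; norm_num) (ZMod.card 11)).elim fun b => ⟨a.trans b.symm⟩
  · exact (Cfsg.Agent.S0498.result 13 (Or.inr rfl) (by rw [hG]; norm_num) (ZMod.card 13)).elim fun a =>
      (Cfsg.Agent.S0498.result 13 (Or.inr rfl) (by rw [hS]; norm_num) (ZMod.card 13)).elim fun b => ⟨a.trans b.symm⟩
  · exact (Cfsg.Agent.S1020.result hG (ZMod.card 17)).elim fun a =>
      (Cfsg.Agent.S1020.result hS (ZMod.card 17)).elim fun b => ⟨a.trans b.symm⟩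
  · exact (Cfsg.Agent.S0984.result hG).elim fun a => (Cfsg.Agent.S0984.result hS).elim fun b => ⟨a.trans b.symm⟩
  · exact (Cfsg.Agent.S1021.result hG (ZMod.card 19)).elim fun a =>
      (Cfsg.Agent.S1021.result hS (ZMod.card 19)).elim fun b => ⟨a.trans b.symm⟩
  · obtain ⟨F, _, _, _, hF⟩ := exists_field_two_pow 4 (by norm_num)
    exact (Cfsg.Agent.S0981.result hG (F := F) (by rw [hF]; norm_num)).elim fun a =>
      (Cfsg.Agent.S0981.result hS (F := F) (by rw [hF]; norm_num)).elim fun b => ⟨a.trans b.symm⟩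

variable {S : Type u} [Group S] [Finite S] [IsSimpleGroup S]

/-- In the linear groups every prime divisor is a vertex. -/
theorem mem_degreePrimes_psl {n : ℕ} (hS : Nat.card S = n)
    (hn : n = 168 ∨ n = 360 ∨ n = 504 ∨ n = 660 ∨ n = 1092 ∨ n = 2448 ∨ n = 3420 ∨ n = 4080) {r : ℕ}
    (hr : r.Prime) (hrn : r ∣ n) : r ∈ Cfsg.degreePrimes S := by
  rcases hn with rfl | rfl | rfl | rfl | rfl | rfl | rfl | rfl
  · obtain ⟨e⟩ := Cfsg.Agent.S0495.result hS (ZMod.card 7)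
    rw [(Cfsg.Agent.S4774.result (ZMod 7) 7 (by norm_num) 7 (ZMod.card 7) (by norm_num) (Or.inl ⟨e⟩)).1]
    exact ⟨hr, dvd_trans hrn (by norm_num)⟩
  · obtain ⟨F, _, _, hF⟩ := exists_field_nine
    haveI : Fact (Nat.Prime 3) := ⟨Nat.prime_three⟩
    haveI : CharP F 3 := charP_of_card_eq_prime_pow (p := 3) (f := 2) (hF.trans (by norm_num))
    obtain ⟨e⟩ := iso_psl_nine hS hF
    rw [(Cfsg.Agent.S4774.result F 3 (by norm_num) 9 hF (by norm_num) (Or.inl ⟨e⟩)).1]
    exact ⟨hr, dvd_trans hrn (by norm_num)⟩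
  · obtain ⟨F, _, _, _, hF⟩ := exists_field_two_pow 3 (by norm_num)
    obtain ⟨e⟩ := Cfsg.Agent.S1011.result hS (F := F) (by rw [hF]; norm_num)
    rw [(Cfsg.Agent.S4812.result F 8 (by rw [hF]; norm_num) (by norm_num) (Or.inl ⟨e⟩)).1]
    exact ⟨hr, dvd_trans hrn (by norm_num)⟩
  · obtain ⟨e⟩ := Cfsg.Agent.S0498.result 11 (Or.inl rfl) (by rw [hS]; norm_num) (ZMod.card 11) (G := S)
    rw [(Cfsg.Agent.S4774.result (ZMod 11) 11 (by norm_num) 11 (ZMod.card 11) (by norm_num) (Or.inl ⟨e⟩)).1]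
    exact ⟨hr, dvd_trans hrn (by norm_num)⟩
  · obtain ⟨e⟩ := Cfsg.Agent.S0498.result 13 (Or.inr rfl) (by rw [hS]; norm_num) (ZMod.card 13) (G := S)
    rw [(Cfsg.Agent.S4774.result (ZMod 13) 13 (by norm_num) 13 (ZMod.card 13) (by norm_num) (Or.inl ⟨e⟩)).1]
    exact ⟨hr, dvd_trans hrn (by norm_num)⟩
  · obtain ⟨e⟩ := Cfsg.Agent.S1020.result hS (ZMod.card 17)
    rw [(Cfsg.Agent.S4774.result (ZMod 17) 17 (by norm_num) 17 (ZMod.card 17) (by norm_num) (Or.inl ⟨e⟩)).1]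
    exact ⟨hr, dvd_trans hrn (by norm_num)⟩
  · obtain ⟨e⟩ := Cfsg.Agent.S1021.result hS (ZMod.card 19)
    rw [(Cfsg.Agent.S4774.result (ZMod 19) 19 (by norm_num) 19 (ZMod.card 19) (by norm_num) (Or.inl ⟨e⟩)).1]
    exact ⟨hr, dvd_trans hrn (by norm_num)⟩
  · obtain ⟨F, _, _, _, hF⟩ := exists_field_two_pow 4 (by norm_num)
    obtain ⟨e⟩ := Cfsg.Agent.S0981.result hS (F := F) (by rw [hF]; norm_num)
    rw [(Cfsg.Agent.S4812.result F 16 (by rw [hF]; norm_num) (by norm_num) (Or.inl ⟨e⟩)).1]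
    exact ⟨hr, dvd_trans hrn (by norm_num)⟩

/-- A simple group of order 168 has a degree divisible by six. -/
theorem exists_six_168 (hS : Nat.card S = 168) : ∃ d ∈ Cfsg.charDegrees S, 6 ∣ d := by
  obtain ⟨e⟩ := Cfsg.Agent.S0495.result hS (ZMod.card 7)
  obtain ⟨-, -, -, d, hd, h⟩ := ((Cfsg.Agent.S4774.result (ZMod 7) 7 (by norm_num) 7 (ZMod.card 7) (by norm_num)
    (Or.inl ⟨e⟩)).2 2 3).2 ⟨by norm_num, Nat.prime_two, Nat.prime_three, by norm_num, by norm_num, Or.inl rfl⟩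
  exact ⟨d, hd, h⟩

/-- The graph for order 504. -/
theorem not_adj_504 (hS : Nat.card S = 504) : ¬ (Cfsg.degreeGraph S).Adj 2 3 := by
  obtain ⟨F, _, _, _, hF⟩ := exists_field_two_pow 3 (by norm_num)
  obtain ⟨e⟩ := Cfsg.Agent.S1011.result hS (F := F) (by rw [hF]; norm_num)
  rw [(Cfsg.Agent.S4812.result F 8 (by rw [hF]; norm_num) (by norm_num) (Or.inl ⟨e⟩)).2 2 3]
  norm_num

/-- The graph for order 360. -/
theorem adj_360 (hS : Nat.card S = 360) :
    (Cfsg.degreeGraph S).Adj 2 5 ∧ ¬ (Cfsg.degreeGraph S).Adj 2 3 := by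
  obtain ⟨F, _, _, hF⟩ := exists_field_nine
  haveI : Fact (Nat.Prime 3) := ⟨Nat.prime_three⟩
  haveI : CharP F 3 := charP_of_card_eq_prime_pow (p := 3) (f := 2) (hF.trans (by norm_num))
  obtain ⟨e⟩ := iso_psl_nine hS hF
  rw [(Cfsg.Agent.S4774.result F 3 (by norm_num) 9 hF (by norm_num) (Or.inl ⟨e⟩)).2 2 5,
    (Cfsg.Agent.S4774.result F 3 (by norm_num) 9 hF (by norm_num) (Or.inl ⟨e⟩)).2 2 3]
  norm_num

/-- The vertices five and seven of `A7`. -/
theorem degreePrimes_2520 (hS : Nat.card S = 2520) : 5 ∈ Cfsg.degreePrimes S ∧ 7 ∈ Cfsg.degreePrimes S := by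
  obtain ⟨e⟩ := Cfsg.Agent.S0984.result hS
  haveI : MulAction.IsMultiplyPretransitive (alternatingGroup (Fin 7)) (Fin 7) 4 := by
    haveI := alternatingGroup.isMultiplyPretransitive (Fin 7)
    exact MulAction.isMultiplyPretransitive_of_le (G := alternatingGroup (Fin 7)) (α := Fin 7)
      (n := Nat.card (Fin 7) - 2) (by simp) (by simp)
  haveI := Fintype.ofFinite S
  obtain ⟨-, h22, h11⟩ := CfsgLib.Char.SmallPerm.irreducible (G := alternatingGroup (Fin 7)) (X := Fin 7) (by simp)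
  have hf1 : CfsgLib.Char.SmallPerm.fx (Fin 7) (1 : alternatingGroup (Fin 7)) = 7 := by
    rw [CfsgLib.Char.SmallPerm.fx, MulAction.fixedBy_one_eq_univ, Nat.card_congr (Equiv.Set.univ _)]
    simp
  have hd1 : CfsgLib.Char.SmallPerm.dx (Fin 7) (1 : alternatingGroup (Fin 7)) = 0 := by
    rw [CfsgLib.Char.SmallPerm.dx, Nat.card_eq_zero]
    exact Or.inl ⟨fun a => a.2.2 (one_smul (alternatingGroup (Fin 7)) a.1)⟩
  have h14 : (14 : ℕ) ∈ Cfsg.charDegrees (alternatingGroup (Fin 7)) := ⟨⟨_, h22⟩,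
    CfsgLib.CharBlocks.charDegree_eq (show CfsgLib.Char.SmallPerm.chi22 (Fin 7) (1 : alternatingGroup (Fin 7)) = _ by
      rw [CfsgLib.Char.SmallPerm.chi22, hf1, hd1]; norm_num)⟩
  have h15 : (15 : ℕ) ∈ Cfsg.charDegrees (alternatingGroup (Fin 7)) := ⟨⟨_, h11⟩,
    CfsgLib.CharBlocks.charDegree_eq (show CfsgLib.Char.SmallPerm.chi11 (Fin 7) (1 : alternatingGroup (Fin 7)) = _ by
      rw [CfsgLib.Char.SmallPerm.chi11, hf1, hd1]; norm_num)⟩
  exact ⟨⟨by norm_num, 15, charDegrees_of_equiv e h15, by norm_num⟩,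
    ⟨by norm_num, 14, charDegrees_of_equiv e h14, by norm_num⟩⟩

end CfsgLib.SmallSimple.Degree6000
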