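import Cfsg.Agent.Lib.SmallSimple.Degree6000.Nonsimple
import Cfsg.Agent.Lib.SmallSimple.Degree6000.Models
import Cfsg.Agent.S3669

/-!
Small simple groups from the order and the character degree graph, the order 5616 apart.
-/

set_option autoImplicit false
set_option linter.style.haveILetI false

namespace CfsgLib.SmallSimple.Degree6000

universe u v

/-- Everything but the order 5616, for which uniqueness and two vertices are assumed. -/
theorem main {S : Type u} [Group S] [Finite S] [IsSimpleGroup S] (hS : ¬ IsMulCommutative S)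
    (hlt : Nat.card S < 6000) {G : Type v} [Group G] [Finite G] (hcard : Nat.card G = Nat.card S)
    (hΓ : Cfsg.degreePrimes G = Cfsg.degreePrimes S ∧ Cfsg.degreeGraph G = Cfsg.degreeGraph S)
    (hu : IsSimpleGroup G → Nat.card G = 5616 → Nat.card S = 5616 → Nonempty (G ≃* S))
    (hv : Nat.card S = 5616 → 13 ∈ Cfsg.degreePrimes S ∧ 3 ∈ Cfsg.degreePrimes S) :
    Nonempty (G ≃* S) := by
  have hmem := card_cases hS hlt
  simp only [List.mem_cons, List.not_mem_nil, or_false] at hmem
  have hv' : ∀ {n : ℕ}, Nat.card S = n →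
      (n = 168 ∨ n = 360 ∨ n = 504 ∨ n = 660 ∨ n = 1092 ∨ n = 2448 ∨ n = 3420 ∨ n = 4080) →
      ∀ {r : ℕ}, r.Prime → r ∣ n → r ∈ Cfsg.degreePrimes G :=
    fun h hn r hr hrn => hΓ.1 ▸ mem_degreePrimes_psl h hn hr hrn
  by_cases hsimp : IsSimpleGroup G
  · rcases hmem with e | e | e | e | e | e | e | e | e | e | e
    rotate_right
    · exact hu hsimp (hcard.trans e) e
    all_goals exact nonempty_iso (n := Nat.card S) (by rw [e]; simp [IsListed]) hcard rfl
  exfalso
  rcases hmem with e | e | e | e | e | e | e | e | e | e | e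
  · -- order 60
    obtain ⟨f⟩ := Cfsg.Agent.S0494.result e
    have hA : Cfsg.degreePrimes S = Cfsg.degreePrimes (alternatingGroup (Fin 5)) ∧
        Cfsg.degreeGraph S = Cfsg.degreeGraph (alternatingGroup (Fin 5)) := by
      have hd : Cfsg.charDegrees S = Cfsg.charDegrees (alternatingGroup (Fin 5)) :=
        Set.ext fun d => ⟨charDegrees_of_equiv f.symm, charDegrees_of_equiv f⟩
      refine ⟨by unfold Cfsg.degreePrimes; rw [hd], ?_⟩
      ext p q
      show (p ≠ q ∧ p.Prime ∧ q.Prime ∧ ∃ d ∈ Cfsg.charDegrees S, p * q ∣ d) ↔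
        (p ≠ q ∧ p.Prime ∧ q.Prime ∧ ∃ d ∈ Cfsg.charDegrees (alternatingGroup (Fin 5)), p * q ∣ d)
      rw [hd]
    obtain ⟨g⟩ := Cfsg.Agent.S3669.result (hcard.trans e) ⟨hΓ.1.trans hA.1, hΓ.2.trans hA.2⟩
    haveI := alternatingGroup.isSimpleGroup_five
    exact hsimp g.isSimpleGroup
  · haveI : Fact (Nat.Prime 7) := ⟨by norm_num⟩
    exact hsimp (simple_of_two_vertices (p := 7) (r := 2) (a := 3) (hcard.trans e) (by norm_num) (by norm_num)
      (by norm_num) Nat.prime_two (by norm_num) (by norm_num) (by norm_num) (by norm_num) (by decide +kernel)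
      (by decide) (hv' e (by simp) (by norm_num) (by norm_num)) (hv' e (by simp) Nat.prime_two (by norm_num)))
  · exact false_360 (hcard.trans e) hsimp (hv' e (by simp) (by norm_num) (by norm_num))
      (hΓ.2 ▸ (adj_360 e).1) (hΓ.2 ▸ (adj_360 e).2)
  · exact false_504 (hcard.trans e) hsimp (hv' e (by simp) (by norm_num) (by norm_num))
      (hv' e (by simp) Nat.prime_two (by norm_num)) (hΓ.2 ▸ not_adj_504 e)
      (fun A _ _ _ hA => exists_six_168 hA)
  · exact hsimp (simple_of_vertex (p := 11) (hcard.trans e) (by norm_num) (by norm_num) (by norm_num)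
      (by decide +kernel) (by decide) (hv' e (by simp) (by norm_num) (by norm_num)))
  · exact hsimp (simple_of_vertex (p := 13) (hcard.trans e) (by norm_num) (by norm_num) (by norm_num)
      (by decide +kernel) (by decide) (hv' e (by simp) (by norm_num) (by norm_num)))
  · exact hsimp (simple_of_vertex (p := 17) (hcard.trans e) (by norm_num) (by norm_num) (by norm_num)
      (by decide +kernel) (by decide) (hv' e (by simp) (by norm_num) (by norm_num)))
  · exact hsimp (simple_2520 (hcard.trans e) (hΓ.1 ▸ (degreePrimes_2520 e).1) (hΓ.1 ▸ (degreePrimes_2520 e).2))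
  · exact hsimp (simple_of_vertex (p := 19) (hcard.trans e) (by norm_num) (by norm_num) (by norm_num)
      (by decide +kernel) (by decide) (hv' e (by simp) (by norm_num) (by norm_num)))
  · exact hsimp (simple_of_vertex (p := 17) (hcard.trans e) (by norm_num) (by norm_num) (by norm_num)
      (by decide +kernel) (by decide) (hv' e (by simp) (by norm_num) (by norm_num)))
  · exact hsimp (simple_of_two_vertices (p := 13) (r := 3) (a := 3) (hcard.trans e) (by norm_num) (by norm_num)
      (by norm_num) Nat.prime_three (by norm_num) (by norm_num) (by norm_num) (by norm_num) (by decide +kernel)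
      (by decide) (hΓ.1 ▸ (hv e).1) (hΓ.1 ▸ (hv e).2))

end CfsgLib.SmallSimple.Degree6000
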