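import Cfsg.Agent.Lib.SmallSimple.Degree6000.Reduce
import Cfsg.Agent.S0496

/-!
A group of order dividing 2520 and divisible by 35 that is not simple has a normal subgroup of order
five or seven.
-/

set_option autoImplicit false
set_option linter.style.haveILetI false

namespace CfsgLib.SmallSimple.Degree6000

open Subgroup

universe u

/-- Groups of order less than sixty are solvable. -/
theorem solvable_of_lt_sixty {G : Type u} [Group G] [Finite G] (K : Subgroup G) (h : Nat.card K < 60) :
    Group.IsSolvable K := by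
  refine solvable_of_orders (Nat.card K) (fun X _ _ _ hX hd => ?_) _ K rfl dvd_rfl
  have h1 := Nat.le_of_dvd Nat.card_pos hd
  rcases Cfsg.Agent.S0496.result hX (by omega) with e | e | e | e | e | e <;> omega

/-- The image of a point stabilizer normalizing a cycle of length seven on eight points. -/
theorem card_normalizer_cycle_le {Ω : Type*} [Finite Ω] (hΩ : Nat.card Ω = 8) (σ : Equiv.Perm Ω)
    (hσ : orderOf σ = 7) (P : Ω) (hσP : σ P = P) (hmove : ∀ b, σ b = b → b = P)
    (T : Subgroup (Equiv.Perm Ω)) (hTP : ∀ τ ∈ T, τ P = P)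
    (hTn : ∀ τ ∈ T, ∃ j : ℕ, τ * σ * τ⁻¹ = σ ^ j) : Nat.card T ≤ 42 := by
  classical
  haveI := Fintype.ofFinite Ω
  haveI : Fact (Nat.Prime 7) := ⟨by norm_num⟩
  obtain ⟨b, hb⟩ : ∃ b, b ≠ P := by
    haveI : Nontrivial Ω := Finite.one_lt_card_iff_nontrivial.1 (by omega)
    exact exists_ne P
  have hinj : Function.Injective fun i : Fin 7 => (σ ^ (i : ℕ)) b := by
    intro i j hij
    simp only at hij
    by_contra hne
    wlog hlt : (i : ℕ) < j generalizing i j with H
    · exact H hij.symm (Ne.symm hne) (lt_of_le_of_ne (not_lt.1 hlt) fun e => hne (Fin.ext e.symm))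
    have hfix : (σ ^ ((j : ℕ) - i)) b = b := by
      apply (σ ^ (i : ℕ)).injective
      rw [← Equiv.Perm.mul_apply, ← pow_add, Nat.add_sub_cancel' hlt.le]
      exact hij.symm
    have hcop : ((j : ℕ) - i).Coprime (orderOf σ) := by
      rw [hσ]; exact (Nat.Coprime.symm ((Nat.Prime.coprime_iff_not_dvd (by norm_num)).2 fun h => by
        have := Nat.le_of_dvd (by omega) h
        omega))
    obtain ⟨n, hn⟩ := exists_pow_eq_self_of_coprime hcop
    refine hb (hmove b ?_)
    rw [← hn]
    clear hn
    induction n with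
    | zero => simp
    | succ n ih => rw [pow_succ, Equiv.Perm.mul_apply, hfix, ih]
  have hall : ∀ y, y ≠ P → ∃ i : Fin 7, (σ ^ (i : ℕ)) b = y := by
    have hsub : Finset.univ.image (fun i : Fin 7 => (σ ^ (i : ℕ)) b) ⊆ Finset.univ.erase P := by
      intro y hy
      obtain ⟨i, -, rfl⟩ := Finset.mem_image.1 hy
      refine Finset.mem_erase.2 ⟨fun e => hb ?_, Finset.mem_univ _⟩
      have h : (σ ^ (i : ℕ)) P = P := Equiv.Perm.pow_apply_eq_self_of_apply_eq_self hσP _
      exact (σ ^ (i : ℕ)).injective (e.trans h.symm)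
    have heq := Finset.eq_of_subset_of_card_le hsub (by
      rw [Finset.card_erase_of_mem (Finset.mem_univ _), Finset.card_univ, Finset.card_image_of_injective _ hinj,
        Finset.card_univ, Fintype.card_fin, ← Nat.card_eq_fintype_card, hΩ])
    intro y hy
    have hm : y ∈ Finset.univ.erase P := Finset.mem_erase.2 ⟨hy, Finset.mem_univ _⟩
    rw [← heq] at hm
    obtain ⟨i, -, hi⟩ := Finset.mem_image.1 hm
    exact ⟨i, hi⟩
  have hd : ∀ τ : T, ∃ j : {j : Fin 7 // j ≠ 0}, (τ : Equiv.Perm Ω) * σ * (τ : Equiv.Perm Ω)⁻¹ = σ ^ (j.1 : ℕ) := by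
    intro τ
    obtain ⟨j, hj⟩ := hTn τ τ.2
    refine ⟨⟨⟨j % 7, Nat.mod_lt _ (by norm_num)⟩, fun e => ?_⟩, ?_⟩
    · have e' : j % 7 = 0 := congrArg Fin.val e
      rw [← pow_mod_orderOf, hσ, e', pow_zero] at hj
      have h1 : σ = 1 := conj_eq_one_iff.1 hj
      rw [h1, orderOf_one] at hσ
      omega
    · show _ = σ ^ (j % 7)
      rw [hj, ← pow_mod_orderOf, hσ]
  choose d hdd using hd
  let F : T → {y : Ω // y ≠ P} × {j : Fin 7 // j ≠ 0} := fun τ =>
    (⟨(τ : Equiv.Perm Ω) b, fun e => hb ((τ : Equiv.Perm Ω).injective (e.trans (hTP τ τ.2).symm))⟩, d τ)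
  have hF : Function.Injective F := by
    intro τ τ' h
    have h1 : (τ : Equiv.Perm Ω) b = (τ' : Equiv.Perm Ω) b := congrArg Subtype.val (congrArg Prod.fst h)
    have h2 : d τ = d τ' := congrArg Prod.snd h
    have key : ∀ (τ : T) (i : ℕ), (τ : Equiv.Perm Ω) ((σ ^ i) b) = ((σ ^ ((d τ).1 : ℕ)) ^ i) ((τ : Equiv.Perm Ω) b) := by
      intro τ i
      rw [← hdd, conj_pow]
      simp [Equiv.Perm.mul_apply]
    refine Subtype.ext (Equiv.ext fun y => ?_)
    by_cases hy : y = P
    · rw [hy, hTP τ τ.2, hTP τ' τ'.2]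
    · obtain ⟨i, rfl⟩ := hall y hy
      rw [key, key, h1, h2]
  have hle := Nat.card_le_card_of_injective F hF
  have e1 : Nat.card {y : Ω // y ≠ P} = 7 := by
    rw [Nat.card_eq_fintype_card, Fintype.card_subtype_compl, Fintype.card_subtype_eq,
      ← Nat.card_eq_fintype_card, hΩ]
  have e2 : Nat.card {j : Fin 7 // j ≠ 0} = 6 := by
    rw [Nat.card_eq_fintype_card, Fintype.card_subtype_compl, Fintype.card_subtype_eq, Fintype.card_fin]
  rw [Nat.card_prod, e1, e2] at hle
  exact hle

theorem subgroup_five_of_seven {G : Type u} [Group G] [Finite G] (h7 : 7 ∣ Nat.card G) (hG : Nat.card G ∣ 2520)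
    (M : Subgroup G) [M.Normal] (hidx : M.index = 7) :
    (∃ P : Subgroup G, P.Normal ∧ Nat.card P = 7) ∨ Group.IsSolvable M := by
  haveI : Fact (Nat.Prime 7) := ⟨by norm_num⟩
  obtain ⟨P⟩ : Nonempty (Sylow 7 G) := inferInstance
  obtain ⟨m, hm⟩ := h7
  have hm360 : m ∣ 360 := by
    refine (Nat.mul_dvd_mul_iff_left (show 0 < 7 by norm_num)).1 ?_
    rw [← hm]; exact hG.trans (by norm_num)
  have hm7 : ¬ 7 ∣ m := fun h => by have := h.trans hm360; norm_num at this
  have hG' : Nat.card G = 7 ^ 1 * m := by rw [pow_one]; exact hm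
  have hP : Nat.card (P : Subgroup G) = 7 := by
    simpa using CfsgLib.SmallGroups.card_sylow_eq hG' hm7 P
  have hkd := CfsgLib.SmallGroups.card_sylow_dvd_of_card_eq (G := G) hG' hm7
  have hkm := CfsgLib.SmallGroups.mod_eq_one_card_sylow (G := G) (p := 7)
  have hlist : ∀ k ∈ Nat.divisors 360, k % 7 = 1 → k = 1 ∨ k = 8 ∨ k = 15 ∨ k = 36 ∨ k = 120 := by decide +kernel
  by_cases hk1 : Nat.card (Sylow 7 G) = 1
  · exact Or.inl ⟨_, CfsgLib.SmallGroups.sylow_normal_of_card_eq_one hk1 P, hP⟩
  -- the number of fixed points forces eight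
  obtain ⟨x, hx⟩ : ∃ x, x ∈ (P : Subgroup G) ∧ orderOf x = 7 := by
    obtain ⟨x, hx⟩ := exists_prime_orderOf_dvd_card' (G := (P : Subgroup G)) 7 (by rw [hP])
    exact ⟨x, x.2, by rw [Subgroup.orderOf_coe, hx]⟩
  have hMc : Nat.card M = m := by
    have := M.index_mul_card
    rw [hidx, hm] at this
    omega
  have hxn : x ∈ normalizer (M : Set G) := (normalizer_eq_top_iff.2 (inferInstance : M.Normal)) ▸ mem_top x
  have hC : ∀ s, s.Prime → s ≠ 2 → s ^ (Nat.card M).factorization s ∣
      Nat.card (M ⊓ centralizer ({x} : Set G) : Subgroup G) := by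
    intro s hs hs2
    by_cases hsM : s ∣ Nat.card M
    · refine pow_dvd_fixed hx.2 M hxn (hMc.symm ▸ hm7) hs hsM fun i hi hid => ?_
      refine not_mod_eq_one (p := 7) (n := 360) (e := 8) (by decide +kernel) (by norm_num) hs hi
        (hid.trans (hMc.symm ▸ hm360)) fun e => hs2 ?_
      have h8 : s ∣ 2 ^ 3 := (dvd_pow_self s hi.ne').trans (dvd_of_eq (e.trans (by norm_num)))
      exact (Nat.prime_dvd_prime_iff_eq hs Nat.prime_two).1 (hs.dvd_of_dvd_pow h8)
    · rw [Nat.factorization_eq_zero_of_not_dvd hsM, pow_zero]; exact one_dvd _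
  set C := M ⊓ centralizer ({x} : Set G) with hCdef
  have hPx : zpowers x = (P : Subgroup G) := eq_of_le_of_card_ge (zpowers_le.2 hx.1) (by rw [Nat.card_zpowers, hx.2, hP])
  have hCN : C ≤ normalizer ((P : Subgroup G) : Set G) := by
    refine inf_le_right.trans ?_
    rw [← hPx]
    refine le_trans (le_of_eq ?_) (centralizer_le_normalizer _)
    rw [zpowers_eq_closure, centralizer_closure]
  have h8 : Nat.card (Sylow 7 G) ∣ 2 ^ m.factorization 2 := by
    have hNd : 7 * Nat.card C ∣ Nat.card (normalizer ((P : Subgroup G) : Set G)) := by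
      refine Nat.Coprime.mul_dvd_of_dvd_of_dvd ?_
        (hP.symm.dvd.trans (card_dvd_of_le (le_normalizer (H := (P : Subgroup G))))) (card_dvd_of_le hCN)
      exact (Nat.Prime.coprime_iff_not_dvd (by norm_num)).2 fun h =>
        hm7 (hMc ▸ h.trans (card_dvd_of_le inf_le_left))
    have hmul := CfsgLib.SmallGroups.card_sylow_mul_card_normalizer P
    obtain ⟨q, hq⟩ := hNd
    rw [hq, hm] at hmul
    have h1 : Nat.card (Sylow 7 G) * Nat.card C ∣ m := ⟨q, by nlinarith⟩
    rw [← Nat.factorization_le_iff_dvd Nat.card_pos.ne' (pow_ne_zero _ two_ne_zero), Finsupp.le_def]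
    intro s
    have hm0 : m ≠ 0 := fun e => hm7 (e ▸ dvd_zero 7)
    have h2 := (Nat.factorization_le_iff_dvd (Nat.mul_ne_zero Nat.card_pos.ne' Nat.card_pos.ne') hm0).2 h1 s
    rw [Nat.factorization_mul Nat.card_pos.ne' Nat.card_pos.ne', Finsupp.add_apply] at h2
    by_cases hs2 : s = 2
    · subst hs2
      rw [Nat.prime_two.factorization_pow, Finsupp.single_eq_same]
      omega
    · by_cases hs : s.Prime
      · have h3 := (hs.pow_dvd_iff_le_factorization Nat.card_pos.ne').1 (hC s hs hs2)
        rw [hMc] at h3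
        omega
      · rw [Nat.factorization_eq_zero_of_not_prime _ hs]; exact Nat.zero_le _
  have hk8 : Nat.card (Sylow 7 G) = 8 := by
    have h3 : m.factorization 2 ≤ 3 := by
      by_contra h
      have := ((pow_dvd_pow 2 (by omega : 4 ≤ m.factorization 2)).trans (Nat.ordProj_dvd m 2)).trans hm360
      norm_num at this
    obtain ⟨i, hi, hie⟩ := (Nat.dvd_prime_pow Nat.prime_two).1 h8
    have hi3 : i ≤ 3 := hi.trans h3
    interval_cases i <;> omega
  -- the kernel on the eight Sylow subgroups
  right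
  set f := MulAction.toPermHom G (Sylow 7 G) with hf
  set K := f.ker with hKdef
  have hKN : ∀ g ∈ K, ∀ Q : Sylow 7 G, g • Q = Q := fun g hg Q => by
    have := congrArg (fun e : Equiv.Perm (Sylow 7 G) => e Q) (MonoidHom.mem_ker.1 hg)
    simpa [hf] using this
  have hK7 : ¬ 7 ∣ Nat.card K := by
    intro h
    obtain ⟨y, hy⟩ := exists_prime_orderOf_dvd_card' (G := K) 7 h
    rw [← Subgroup.orderOf_coe] at hy
    refine hk1 (Nat.card_eq_one_iff_unique.2 ⟨⟨fun Q R => ?_⟩, inferInstance⟩)
    have key : ∀ Q : Sylow 7 G, zpowers (y : G) = (Q : Subgroup G) := fun Q => by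
      have hyQ : (y : G) ∈ (Q : Subgroup G) := by
        have hN := Sylow.smul_eq_iff_mem_normalizer.1 (hKN y y.2 Q)
        have hp : IsPGroup 7 (zpowers (y : G)) :=
          IsPGroup.of_card (n := 1) (by rw [Nat.card_zpowers, hy, pow_one])
        by_contra hyQ
        have hle : (Q : Subgroup G) ⊔ zpowers (y : G) = Q := by
          refine Q.is_maximal' ?_ le_sup_left
          exact Q.isPGroup'.to_sup_of_normal_left' hp (zpowers_le.2 hN)
        exact hyQ (hle ▸ (le_sup_right : zpowers (y : G) ≤ _) (mem_zpowers _))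
      refine eq_of_le_of_card_ge (zpowers_le.2 hyQ) ?_
      rw [Nat.card_zpowers, hy, CfsgLib.SmallGroups.card_sylow_eq hG' hm7 Q, pow_one]
    exact Sylow.ext ((key Q).symm.trans (key R))
  have hN : Nat.card (normalizer ((P : Subgroup G) : Set G)) * 8 = 7 * m := by
    have hmul := CfsgLib.SmallGroups.card_sylow_mul_card_normalizer P
    rw [hk8, hm] at hmul
    linarith
  have hKle : K ≤ normalizer ((P : Subgroup G) : Set G) := fun g hg =>
    Sylow.smul_eq_iff_mem_normalizer.1 (hKN g hg P)
  have hK45 : Nat.card K ∣ 45 := by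
    have h1 := card_dvd_of_le hKle
    have h2 : 8 * Nat.card K ∣ 7 * m := by rw [← hN, mul_comm 8]; exact Nat.mul_dvd_mul_right h1 8
    have h4 : Nat.Coprime (8 * Nat.card K) 7 :=
      Nat.Coprime.mul_left (by norm_num) (((by norm_num : Nat.Prime 7).coprime_iff_not_dvd.2 hK7).symm)
    have h5 : 8 * Nat.card K ∣ 7 * 360 := h2.trans (Nat.mul_dvd_mul_left 7 hm360)
    have h3 : 8 * Nat.card K ∣ 8 * 45 := h4.dvd_of_dvd_mul_left h5
    exact (Nat.mul_dvd_mul_iff_left (show 0 < 8 by norm_num)).1 h3
  haveI hKs : Group.IsSolvable K := CfsgLib.SmallSimple.Degree6000.solvable_of_lt_sixty K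
    (lt_of_le_of_lt (Nat.le_of_dvd (by norm_num) hK45) (by norm_num))
  let g : M →* Equiv.Perm (Sylow 7 G) := f.comp M.subtype
  have hrange : Nat.card g.range < 60 := by
    set N := normalizer ((P : Subgroup G) : Set G) with hNdef
    have hidxK : Nat.card K * Nat.card f.range = Nat.card G := by
      rw [hKdef, ← Subgroup.index_ker, Subgroup.card_mul_index]
    have hKN' : (f.comp N.subtype).ker = K.subgroupOf N := by rw [← MonoidHom.comap_ker]; rfl
    have h1 : Nat.card (N.map f) * Nat.card K = Nat.card N := by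
      have h := (f.comp N.subtype).ker.card_mul_index
      rw [Subgroup.index_ker, MonoidHom.range_comp, range_subtype, hKN',
        Nat.card_congr (subgroupOfEquivOfLe hKle).toEquiv] at h
      linarith
    have hfx : f x ∈ N.map f := mem_map_of_mem f (by
      exact le_normalizer hx.1)
    have hfo : orderOf (f x) = 7 := by
      refine ((Nat.dvd_prime (by norm_num)).1 ((orderOf_map_dvd f x).trans (dvd_of_eq hx.2))).resolve_left fun h => ?_
      have h7 := Subgroup.orderOf_dvd_natCard K (MonoidHom.mem_ker.2 (orderOf_eq_one_iff.1 h) : x ∈ K)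
      rw [hx.2] at h7
      exact hK7 h7
    have hT : Nat.card (N.map f) ≤ 42 := by
      refine card_normalizer_cycle_le hk8 (f x) hfo P ?_ ?_ _ ?_ ?_
      · exact Sylow.smul_eq_iff_mem_normalizer.2 (le_normalizer hx.1)
      · intro Q hQ
        refine (CfsgLib.SmallGroups.sylow_eq_of_normalizes P Q fun u hu => ?_).symm
        rw [← hPx] at hu
        exact zpowers_le.2 (Sylow.smul_eq_iff_mem_normalizer.1 hQ) hu
      · rintro _ ⟨y, hy, rfl⟩
        exact Sylow.smul_eq_iff_mem_normalizer.2 hy
      · rintro _ ⟨y, hy, rfl⟩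
        obtain ⟨j, hj⟩ : ∃ j : ℕ, x ^ j = y * x * y⁻¹ := by
          have h := (mem_normalizer_iff.1 hy x).1 hx.1
          rw [← hPx, ← mem_powers_iff_mem_zpowers] at h
          exact h
        exact ⟨j, by rw [← map_inv, ← map_mul, ← map_mul, ← hj, map_pow]⟩
    have hR : Nat.card (N.map f) * 8 = Nat.card f.range := by
      have : 0 < Nat.card K := Nat.card_pos
      nlinarith [hm]
    have h2 : Nat.card g.range * 7 ≤ Nat.card f.range := by
      refine Nat.le_of_dvd Nat.card_pos (Nat.Coprime.mul_dvd_of_dvd_of_dvd ?_ (card_dvd_of_le ?_) ?_)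
      · exact (((by norm_num : Nat.Prime 7).coprime_iff_not_dvd).2 fun h =>
          hm7 (h.trans (hMc ▸ card_range_dvd g))).symm
      · rintro _ ⟨y, rfl⟩; exact ⟨y, rfl⟩
      · have h7 := Subgroup.orderOf_dvd_natCard f.range (show f x ∈ f.range from ⟨x, rfl⟩)
        rwa [hfo] at h7
    omega
  haveI := CfsgLib.SmallSimple.Degree6000.solvable_of_lt_sixty g.range hrange
  haveI : Group.IsSolvable g.ker := by
    let i : g.ker →* K := (M.subtype.comp g.ker.subtype).codRestrict K fun y => MonoidHom.mem_ker.2 y.2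
    have hi : Function.Injective i := fun a b hab =>
      Subtype.ext (Subtype.ext (congrArg (fun z : K => (z : G)) hab))
    exact Group.isSolvable_of_ker_le_range (G' := (⊥ : Subgroup g.ker)) (⊥ : Subgroup g.ker).subtype i (by
      rw [(MonoidHom.ker_eq_bot_iff i).2 hi]; exact bot_le)
  exact Group.isSolvable_of_ker_le_range g.ker.subtype g.rangeRestrict (by
    rw [MonoidHom.ker_rangeRestrict, range_subtype])

/-- The non-simple groups of order dividing 2520 and divisible by 35. -/
theorem normal_five_or_seven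
    (hord : ∀ (X : Type u) [Group X] [Finite X] [IsSimpleGroup X], ¬ IsMulCommutative X → Nat.card X ∣ 2520 →
      Nat.card X = 60 ∨ Nat.card X = 168 ∨ Nat.card X = 360 ∨ Nat.card X = 504 ∨ Nat.card X = 2520) :
    ∀ (k : ℕ) (G : Type u) [Group G] [Finite G], Nat.card G = k → k ∣ 2520 → 35 ∣ k →
      (k = 2520 → ¬ IsSimpleGroup G) →
      (∃ P : Subgroup G, P.Normal ∧ Nat.card P = 5) ∨ ∃ P : Subgroup G, P.Normal ∧ Nat.card P = 7 := by
  intro k
  induction k using Nat.strong_induction_on with
  | _ k ih =>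
    intro G _ _ hk hkn h35 hns
    haveI h5 : Fact (Nat.Prime 5) := ⟨by norm_num⟩
    haveI h7 : Fact (Nat.Prime 7) := ⟨by norm_num⟩
    haveI : Nontrivial G := Finite.one_lt_card_iff_nontrivial.1 (by
      have := Nat.le_of_dvd (hk ▸ Nat.card_pos) h35
      omega)
    obtain ⟨M, hMn, hMt, hsimp⟩ := exists_maximal_normal (G := G)
    have hmul := card_eq_index_mul M
    have hGn : Nat.card G ∣ 2520 := hk ▸ hkn
    have hp5 : ¬ 5 ^ 2 ∣ Nat.card G := fun h => absurd (h.trans hGn) (by norm_num)
    have hp7 : ¬ 7 ^ 2 ∣ Nat.card G := fun h => absurd (h.trans hGn) (by norm_num)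
    have h5G : 5 ∣ Nat.card G := hk ▸ (dvd_trans (by norm_num) h35)
    have h7G : 7 ∣ Nat.card G := hk ▸ (dvd_trans (by norm_num) h35)
    have hMlt : Nat.card M < k := by
      rw [← hk]
      exact lt_of_le_of_ne (card_le_card_group M) fun h => hMt (eq_top_of_card_eq M h)
    have hd : Nat.card M ∣ 2520 := (Dvd.intro_left _ hmul.symm : Nat.card M ∣ Nat.card G).trans hGn
    by_cases hc : IsMulCommutative (G ⧸ M)
    · have hq := prime_card_quotient M hc
      by_cases h35M : 5 ∣ Nat.card M ∧ 7 ∣ Nat.card M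
      · have h35' : 35 ∣ Nat.card M := Nat.Coprime.mul_dvd_of_dvd_of_dvd (by norm_num : Nat.Coprime 5 7) h35M.1 h35M.2
        rcases ih _ hMlt M rfl hd h35' (fun e => absurd (Nat.le_of_dvd (by norm_num) hkn) (by omega)) with
          ⟨Q, hQn, hQ⟩ | ⟨Q, hQn, hQ⟩
        · exact Or.inl (normal_prime_of_normal hp5 M Q hQ)
        · exact Or.inr (normal_prime_of_normal hp7 M Q hQ)
      rw [not_and_or] at h35M
      rcases h35M with h5M | h7M
      · have hq5 : M.index = 5 :=
          ((Nat.prime_dvd_prime_iff_eq h5.out hq).1 ((h5.out.dvd_mul.1 (hmul ▸ h5G)).resolve_right h5M)).symm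
        refine Or.inl (normal_of_index M hq5 h5M fun s i hs hi hsd => ?_)
        refine not_mod_eq_one (n := 504) (e := 0) (by decide +kernel) (by norm_num) hs hi ?_ (pow_pos hs.pos i).ne'
        refine hsd.trans (Nat.Coprime.dvd_of_dvd_mul_left ((h5.out.coprime_iff_not_dvd.2 h5M).symm)
          (hd.trans (by norm_num : 2520 ∣ 5 * 504)))
      · have hq7 : M.index = 7 :=
          ((Nat.prime_dvd_prime_iff_eq h7.out hq).1 ((h7.out.dvd_mul.1 (hmul ▸ h7G)).resolve_right h7M)).symm
        rcases subgroup_five_of_seven h7G hGn M hq7 with h | hMs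
        · exact Or.inr h
        haveI := hMs
        haveI : Group.IsSolvable (G ⧸ M) := Group.isSolvable_of_comm fun a b => mul_comm' a b
        have hGs : Group.IsSolvable G :=
          Group.isSolvable_of_ker_le_range (G' := M) (G'' := G ⧸ M) M.subtype (QuotientGroup.mk' M) (by
            rw [QuotientGroup.ker_mk', Subgroup.range_subtype])
        rcases solvable_cases (p := 5) (r := 2) (a := 12) (n := 2520) (by norm_num) (by norm_num) Nat.prime_two
          (by norm_num) (by norm_num) (by norm_num) (by decide +kernel) k G hk hkn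
          (dvd_trans (by norm_num) h35) hGs with h | ⟨S, -, hS, -⟩
        · exact Or.inl h
        · exact absurd ((hS ▸ card_subgroup_dvd_card S).trans hGn) (by norm_num)
    · have hX := hord (G ⧸ M) hc ((Dvd.intro _ hmul.symm : Nat.card (G ⧸ M) ∣ Nat.card G).trans hGn)
      have hm0 : Nat.card M ≠ 0 := Nat.card_pos.ne'
      have hkey : ∀ (p b : ℕ) [Fact p.Prime], Nat.card M ∣ b → p ∣ Nat.card M → ¬ p ^ 2 ∣ Nat.card G →
          ¬ p ^ 2 ∣ b → b < 60 → 0 < b → okPowers p (b / p) 0 = true → ∃ P : Subgroup G, P.Normal ∧ Nat.card P = p := by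
        intro p b _ hMb hpM hpG hpb hb hb0 hok
        by_cases hMp : Nat.card M = p
        · exact ⟨M, hMn, hMp⟩
        obtain ⟨Q, hQn, hQ⟩ := normal_prime_of_orders hb0 hpb hok (fun X _ _ _ hX' hdX _ => by
          have h1 := Nat.le_of_dvd hb0 hdX
          rcases Cfsg.Agent.S0496.result hX' (by omega) with e | e | e | e | e | e <;> omega) _ M rfl hMb hpM
          (fun e hsim => by
            have h1 := Nat.le_of_dvd hb0 hMb
            by_cases hc' : IsMulCommutative M
            · letI : CommGroup M := { (inferInstance : Group M) with mul_comm := fun a b => mul_comm' a b }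
              have h2 : p = Nat.card M := (Nat.prime_dvd_prime_iff_eq (Fact.out) IsSimpleGroup.prime_card).1 hpM
              exact hMp h2.symm
            · rcases Cfsg.Agent.S0496.result hc' (by omega) with e | e | e | e | e | e <;> omega)
        exact normal_prime_of_normal hpG M Q hQ
      rcases hX with e | e | e | e | e
      · refine Or.inr (hkey 7 42 ?_ ?_ hp7 (by norm_num) (by norm_num) (by norm_num) (by decide +kernel))
        · rw [hmul, e] at hGn
          exact (Nat.mul_dvd_mul_iff_left (by norm_num)).1 (hGn.trans (by norm_num : 2520 ∣ 60 * 42))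
        · exact (h7.out.dvd_mul.1 (hmul ▸ h7G)).resolve_left (by rw [e]; norm_num)
      · refine Or.inl (hkey 5 15 ?_ ?_ hp5 (by norm_num) (by norm_num) (by norm_num) (by decide +kernel))
        · rw [hmul, e] at hGn
          exact (Nat.mul_dvd_mul_iff_left (by norm_num)).1 (hGn.trans (by norm_num : 2520 ∣ 168 * 15))
        · exact (h5.out.dvd_mul.1 (hmul ▸ h5G)).resolve_left (by rw [e]; norm_num)
      · refine Or.inr ?_
        rw [hmul, e] at hGn
        have hM7 : Nat.card M = 7 := by
          have h1 := (Nat.mul_dvd_mul_iff_left (show 0 < 360 by norm_num)).1 (hGn.trans (by norm_num : 2520 ∣ 360 * 7))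
          refine ((Nat.dvd_prime h7.out).1 h1).resolve_left fun h => ?_
          rw [hmul, e, h] at h7G
          norm_num at h7G
        exact ⟨M, hMn, hM7⟩
      · refine Or.inl ?_
        rw [hmul, e] at hGn
        have hM5 : Nat.card M = 5 := by
          have h1 := (Nat.mul_dvd_mul_iff_left (show 0 < 504 by norm_num)).1 (hGn.trans (by norm_num : 2520 ∣ 504 * 5))
          refine ((Nat.dvd_prime h5.out).1 h1).resolve_left fun h => ?_
          rw [hmul, e, h] at h5G
          norm_num at h5G
        exact ⟨M, hMn, hM5⟩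
      · exfalso
        have hk' : k = 2520 ∧ Nat.card M = 1 := by
          have h1 := Nat.le_of_dvd (by norm_num) hkn
          have h2 : 0 < Nat.card M := Nat.card_pos
          rw [← hk, hmul, e] at h1 ⊢
          constructor <;> nlinarith
        have hbot := Subgroup.eq_bot_of_card_eq M hk'.2
        subst hbot
        exact hns hk'.1 (QuotientGroup.quotientBot (G := G)).symm.isSimpleGroup

end CfsgLib.SmallSimple.Degree6000
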