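import Cfsg.Agent.Lib.SmallSimple.Degree6000.Orders
import Cfsg.Agent.Lib.SmallSimple.Degree6000.Cases
import Cfsg.Agent.Lib.SmallSimple.Degree6000.TwentyFive

/-!
A group of one of the orders with enough of the degree graph is simple.
-/

set_option autoImplicit false
set_option linter.style.haveILetI false

namespace CfsgLib.SmallSimple.Degree6000

universe u

variable {G : Type u} [Group G] [Finite G]

/-- A large prime forces simplicity when it is a vertex. -/
theorem simple_of_vertex {n p : ℕ} [hp : Fact p.Prime] (hG : Nat.card G = n) (hn : n < 6000) (hpn : p ∣ n)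
    (hpp : ¬ p ^ 2 ∣ n) (hok : okPowers p (n / p) 0 = true)
    (hlist : ([60, 168, 360, 504, 660, 1092, 2448, 2520, 3420, 4080, 5616].filter
      fun k => n % k == 0 && k % p == 0) = [n]) (h : p ∈ Cfsg.degreePrimes G) : IsSimpleGroup G := by
  by_contra hns
  have hn0 : 0 < n := hG ▸ Nat.card_pos
  refine not_mem_of_normal_prime (hG ▸ hpp)
    (normal_prime_of_orders hn0 hpp hok (fun X _ _ _ hX hd hpd => ?_) n G hG dvd_rfl hpn fun _ => hns) h
  have hmem : Nat.card X ∈ [60, 168, 360, 504, 660, 1092, 2448, 2520, 3420, 4080, 5616].filter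
      fun k => n % k == 0 && k % p == 0 := List.mem_filter.2
    ⟨card_cases hX (lt_of_le_of_lt (Nat.le_of_dvd hn0 hd) hn),
      by simp [Nat.mod_eq_zero_of_dvd hd, Nat.mod_eq_zero_of_dvd hpd]⟩
  rw [hlist, List.mem_singleton] at hmem
  exact hmem

/-- Orders 168 and 5616. -/
theorem simple_of_two_vertices {n p r a : ℕ} [hp : Fact p.Prime] (hG : Nat.card G = n) (hn : n < 6000)
    (hpn : p ∣ n) (hpp : ¬ p ^ 2 ∣ n) (hr : r.Prime) (hrp : r ≠ p) (ha : 0 < a) (hrn : r ^ a ∣ n)
    (hrn' : ¬ r ^ (a + 1) ∣ n) (hok : okPowers p (n / p) (r ^ a) = true)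
    (hlist : ([60, 168, 360, 504, 660, 1092, 2448, 2520, 3420, 4080, 5616].filter fun k => n % k == 0) = [n])
    (h : p ∈ Cfsg.degreePrimes G) (h' : r ∈ Cfsg.degreePrimes G) : IsSimpleGroup G := by
  by_contra hns
  have hn0 : 0 < n := hG ▸ Nat.card_pos
  have hsol : Group.IsSolvable G := solvable_of_not_simple hn0
    (fun X _ _ _ hX hd => List.mem_singleton.1 (card_of_dvd hn0 hn _ hlist hX hd)) hG hns
  rcases solvable_cases hn0 hpp hr hrp ha hrn' hok n G hG dvd_rfl hpn hsol with hP | ⟨S, hSn, hS, hSc⟩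
  · exact not_mem_of_normal_prime (hG ▸ hpp) hP h
  · refine not_mem_degreePrimes S hSc (fun hd => hrn' ?_) h'
    rw [← hG, ← S.card_mul_index, hS, pow_succ]
    exact Nat.mul_dvd_mul_left _ hd

/-- Order 2520. -/
theorem simple_2520 (hG : Nat.card G = 2520) (h5 : 5 ∈ Cfsg.degreePrimes G) (h7 : 7 ∈ Cfsg.degreePrimes G) :
    IsSimpleGroup G := by
  by_contra hns
  haveI : Fact (Nat.Prime 5) := ⟨by norm_num⟩
  haveI : Fact (Nat.Prime 7) := ⟨by norm_num⟩
  rcases normal_five_or_seven (fun X _ _ _ hX hd => by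
      simpa using card_of_dvd (L := [60, 168, 360, 504, 2520]) (by norm_num) (by norm_num) (by decide) hX hd)
    2520 G hG dvd_rfl (by norm_num) (fun _ => hns) with h | h
  · exact not_mem_of_normal_prime (by rw [hG]; norm_num) h h5
  · exact not_mem_of_normal_prime (by rw [hG]; norm_num) h h7

end CfsgLib.SmallSimple.Degree6000
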