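import Cfsg.Agent.Lib.Solvable.CoprimeAction
import Cfsg.Agent.Lib.SmallGroups.Basic
import Mathlib

/-!
Groups with a Sylow subgroup of prime order acting on a group none of whose prime power divisors is
congruent to one modulo that prime.
-/

set_option autoImplicit false
set_option linter.style.haveILetI false

namespace CfsgLib.SmallSimple.Degree6000

open Subgroup

universe u

/-- Every divisor `d > 1` of `n` congruent to one modulo `p` is not a prime power, except the
listed one. -/
def okPowers (p n e : ℕ) : Bool :=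
  (List.range (n + 1)).all fun d => decide (d ≤ 1) || decide (n % d ≠ 0) || decide (d % p ≠ 1) || decide (d = e) ||
    (List.range d).any fun a => decide (1 < a) && decide (d % a = 0) && decide (Nat.gcd a (d / a) = 1)

theorem not_mod_eq_one {p n e s j : ℕ} (h : okPowers p n e = true) (hn : 0 < n) (hs : s.Prime) (hj : 0 < j)
    (hd : s ^ j ∣ n) (hne : s ^ j ≠ e) : s ^ j % p ≠ 1 := by
  intro hmod
  simp only [okPowers, List.all_eq_true, List.mem_range, Bool.or_eq_true, decide_eq_true_eq, List.any_eq_true,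
    Bool.and_eq_true] at h
  rcases h (s ^ j) (Nat.lt_succ_of_le (Nat.le_of_dvd hn hd)) with (((h | h) | h) | h) | ⟨a, hlt, ⟨ha1, ha2⟩, ha3⟩
  · have := Nat.one_lt_pow hj.ne' hs.one_lt
    omega
  · exact h (Nat.mod_eq_zero_of_dvd hd)
  · exact h hmod
  · exact hne h
  · have had : a ∣ s ^ j := Nat.dvd_of_mod_eq_zero ha2
    obtain ⟨i, hi, rfl⟩ := (Nat.dvd_prime_pow hs).1 had
    rw [Nat.pow_div hi hs.pos] at ha3
    have hi0 : i ≠ 0 := fun e => by rw [e, pow_zero] at ha1; omega
    have hij : i < j := (Nat.pow_lt_pow_iff_right hs.one_lt).1 hlt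
    exact hs.not_dvd_one (ha3 ▸ Nat.dvd_gcd (dvd_pow_self s hi0) (dvd_pow_self s (by omega)))

/-- A proper maximal normal subgroup has simple quotient. -/
theorem exists_maximal_normal {G : Type u} [Group G] [Finite G] [Nontrivial G] :
    ∃ (M : Subgroup G) (_ : M.Normal), M ≠ ⊤ ∧ IsSimpleGroup (G ⧸ M) := by
  obtain ⟨M, ⟨hMn, hMt⟩, hmax⟩ := (Set.toFinite {M : Subgroup G | M.Normal ∧ M ≠ ⊤}).exists_maximal
    ⟨⊥, inferInstance, bot_ne_top⟩
  haveI : M.Normal := hMn
  haveI : Nontrivial (G ⧸ M) := by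
    obtain ⟨g, hg⟩ : ∃ g, g ∉ M := by
      by_contra h
      push Not at h
      exact hMt (eq_top_iff.2 fun g _ => h g)
    exact ⟨⟨g, 1, fun h => hg ((QuotientGroup.eq_one_iff g).1 h)⟩⟩
  refine ⟨M, hMn, hMt, ⟨fun N hN => ?_⟩⟩
  have hle : M ≤ N.comap (QuotientGroup.mk' M) := fun x hx => by
    rw [mem_comap, show QuotientGroup.mk' M x = 1 from (QuotientGroup.eq_one_iff x).2 hx]
    exact one_mem N
  by_cases htop : N.comap (QuotientGroup.mk' M) = ⊤
  · right
    rw [← map_comap_eq_self_of_surjective (QuotientGroup.mk'_surjective M) N, htop,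
      map_top_of_surjective _ (QuotientGroup.mk'_surjective M)]
  · left
    have heq := le_antisymm (hmax ⟨hN.comap _, htop⟩ hle) hle
    rw [← map_comap_eq_self_of_surjective (QuotientGroup.mk'_surjective M) N, heq,
      QuotientGroup.map_mk'_self]

variable {G : Type u} [Group G] [Finite G]

/-- The fixed points of an element of prime order on a subgroup of coprime order that it normalizes. -/
theorem card_fixed_modEq {p : ℕ} [hp : Fact p.Prime] {x : G} (hx : orderOf x = p) (S : Subgroup G)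
    (hn : x ∈ normalizer (S : Set G)) :
    Nat.card S % p = Nat.card (S ⊓ centralizer ({x} : Set G) : Subgroup G) % p := by
  letI act : MulAction (zpowers x) S :=
    { smul := fun g s => ⟨(g : G) * s * (g : G)⁻¹, (mem_normalizer_iff.1 (zpowers_le.2 hn g.2) s).1 s.2⟩
      one_smul := fun s => Subtype.ext (by show (1 : G) * s * (1 : G)⁻¹ = s; group)
      mul_smul := fun g h s => Subtype.ext (by
        show ((g : G) * h) * s * ((g : G) * h)⁻¹ = (g : G) * ((h : G) * s * (h : G)⁻¹) * (g : G)⁻¹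
        group) }
  have hP : IsPGroup p (zpowers x) := IsPGroup.of_card (n := 1) (by rw [Nat.card_zpowers, hx, pow_one])
  have hmod := hP.card_modEq_card_fixedPoints S
  refine hmod.trans (congrArg (fun k => k % p) ?_)
  exact Nat.card_congr
    { toFun := fun s => ⟨s.1.1, mem_inf.2 ⟨s.1.2, mem_centralizer_singleton_iff.2 (by
        have h2 : x * (s.1 : G) * x⁻¹ = s.1 := congrArg Subtype.val (s.2 ⟨x, mem_zpowers x⟩)
        exact (mul_inv_eq_iff_eq_mul.1 h2).symm)⟩⟩
      invFun := fun s => ⟨⟨s.1, (mem_inf.1 s.2).1⟩, fun g => by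
        obtain ⟨g, hg⟩ := g
        refine Subtype.ext ?_
        show g * (s : G) * g⁻¹ = s
        obtain ⟨n, rfl⟩ := mem_zpowers_iff.1 hg
        rw [mul_inv_eq_iff_eq_mul]
        exact (Commute.zpow_left (mem_centralizer_singleton_iff.1 (mem_inf.1 s.2).2).symm n).eq⟩
      left_inv := fun s => rfl
      right_inv := fun s => rfl }

/-- On an `s`-subgroup the fixed points have an index `s ^ i` congruent to one. -/
theorem exists_fixed_index {p : ℕ} [hp : Fact p.Prime] {x : G} (hx : orderOf x = p) {s j : ℕ} (hs : s.Prime)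
    (hsp : s ≠ p) (S : Subgroup G) (hS : Nat.card S = s ^ j) (hn : x ∈ normalizer (S : Set G)) :
    ∃ i ≤ j, s ^ i % p = 1 ∧ Nat.card (S ⊓ centralizer ({x} : Set G) : Subgroup G) = s ^ (j - i) := by
  have hd := card_dvd_of_le (inf_le_left : S ⊓ centralizer ({x} : Set G) ≤ S)
  rw [hS] at hd
  obtain ⟨b, hb, hbe⟩ := (Nat.dvd_prime_pow hs).1 hd
  refine ⟨j - b, Nat.sub_le _ _, ?_, by rw [hbe, Nat.sub_sub_self hb]⟩
  have h1 := card_fixed_modEq hx S hn
  rw [hS, hbe] at h1
  have h2 : s ^ b * 1 ≡ s ^ b * s ^ (j - b) [MOD p] := by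
    rw [mul_one, ← pow_add, Nat.add_sub_cancel' hb]
    exact h1.symm
  have h3 := Nat.ModEq.cancel_left_of_coprime
    (((Nat.coprime_primes hp.out hs).2 (Ne.symm hsp)).pow_right b) h2
  have h4 : 1 % p = s ^ (j - b) % p := h3
  rw [← h4, Nat.one_mod_eq_one]
  exact hp.out.ne_one

/-- An element of prime order normalizes a Sylow subgroup of a coprime subgroup it normalizes. -/
theorem exists_invariant {p s : ℕ} [hp : Fact p.Prime] [Fact s.Prime] {x : G} (hx : orderOf x = p)
    (N : Subgroup G) (hn : x ∈ normalizer (N : Set G)) (hpN : ¬ p ∣ Nat.card N) :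
    ∃ S : Subgroup G, S ≤ N ∧ Nat.card S = s ^ (Nat.card N).factorization s ∧ x ∈ normalizer (S : Set G) := by
  have hsol : Group.IsSolvable (zpowers x) := by
    have := (IsPGroup.of_card (p := p) (n := 1) (G := zpowers x) (by rw [Nat.card_zpowers, hx, pow_one])).isNilpotent
    infer_instance
  obtain ⟨R, hR⟩ := CfsgLib.Solvable.exists_invariant_sylow (zpowers x) N (zpowers_le.2 hn) (by
    rw [Nat.card_zpowers, hx]; exact hp.out.coprime_iff_not_dvd.2 hpN) (Or.inl hsol) s
  exact ⟨_, map_subtype_le _, by rw [card_map_of_injective N.subtype_injective, R.card_eq_multiplicity],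
    hR (mem_zpowers x)⟩

/-- The centralizer of `x` in `N` contains the full `s`-part when no `s`-power is congruent to one. -/
theorem pow_dvd_fixed {p : ℕ} [hp : Fact p.Prime] {x : G} (hx : orderOf x = p) (N : Subgroup G)
    (hn : x ∈ normalizer (N : Set G)) (hpN : ¬ p ∣ Nat.card N) {s : ℕ} (hs : s.Prime)
    (hsN : s ∣ Nat.card N) (h : ∀ i, 0 < i → s ^ i ∣ Nat.card N → s ^ i % p ≠ 1) :
    s ^ (Nat.card N).factorization s ∣ Nat.card (N ⊓ centralizer ({x} : Set G) : Subgroup G) := by
  haveI : Fact s.Prime := ⟨hs⟩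
  obtain ⟨S, hSN, hS, hSn⟩ := exists_invariant (s := s) hx N hn hpN
  have hsp : s ≠ p := fun e => hpN (e ▸ hsN)
  obtain ⟨i, hi, hmod, hcard⟩ := exists_fixed_index hx hs hsp S hS hSn
  obtain rfl : i = 0 := by
    by_contra h0
    exact h i (Nat.pos_of_ne_zero h0) ((pow_dvd_pow s hi).trans (Nat.ordProj_dvd _ _)) hmod
  rw [Nat.sub_zero] at hcard
  exact hcard ▸ card_dvd_of_le (inf_le_inf_right _ hSN)

/-- An element of prime order centralizes a normalized subgroup with no prime power divisor congruent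
to one. -/
theorem le_centralizer_of_no_power {p : ℕ} [hp : Fact p.Prime] {x : G} (hx : orderOf x = p) (N : Subgroup G)
    (hn : x ∈ normalizer (N : Set G)) (hpN : ¬ p ∣ Nat.card N)
    (h : ∀ s i : ℕ, s.Prime → 0 < i → s ^ i ∣ Nat.card N → s ^ i % p ≠ 1) :
    N ≤ centralizer ({x} : Set G) := by
  set C := N ⊓ centralizer ({x} : Set G) with hC
  have hd : Nat.card N ∣ Nat.card C := by
    rw [← Nat.factorization_le_iff_dvd Nat.card_pos.ne' Nat.card_pos.ne', Finsupp.le_def]
    intro s
    by_cases hs : s.Prime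
    · by_cases hsN : s ∣ Nat.card N
      · exact (hs.pow_dvd_iff_le_factorization Nat.card_pos.ne').1
          (pow_dvd_fixed hx N hn hpN hs hsN fun i => h s i hs)
      · rw [Nat.factorization_eq_zero_of_not_dvd hsN]; exact Nat.zero_le _
    · rw [Nat.factorization_eq_zero_of_not_prime _ hs]; exact Nat.zero_le _
  have := eq_of_le_of_card_ge (inf_le_left : C ≤ N) (Nat.le_of_dvd Nat.card_pos hd)
  exact inf_eq_left.1 this

/-- A normal subgroup of order `p` is the only one. -/
theorem eq_of_normal_prime {p : ℕ} [hp : Fact p.Prime] (P Q : Subgroup G) [P.Normal]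
    (hP : Nat.card P = p) (hQ : Nat.card Q = p) (hpp : ¬ p ^ 2 ∣ Nat.card G) : Q = P := by
  refine eq_of_le_of_card_ge (fun y hy => ?_) (by rw [hP, hQ])
  by_contra hyP
  have h1 : orderOf (QuotientGroup.mk' P y) ∣ p := (orderOf_map_dvd _ y).trans (hQ ▸ Subgroup.orderOf_dvd_natCard Q hy)
  rcases (Nat.dvd_prime hp.out).1 h1 with h | h
  · exact hyP ((QuotientGroup.eq_one_iff y).1 (orderOf_eq_one_iff.1 h))
  · refine hpp ?_
    rw [Subgroup.card_eq_card_quotient_mul_card_subgroup P, pow_two, hP]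
    exact Nat.mul_dvd_mul_right (h ▸ _root_.orderOf_dvd_natCard _) p

/-- Normality passes up from a normal subgroup. -/
theorem normal_prime_of_normal {p : ℕ} [hp : Fact p.Prime] (hpp : ¬ p ^ 2 ∣ Nat.card G) (M : Subgroup G)
    [M.Normal] (Q : Subgroup M) [Q.Normal] (hQ : Nat.card Q = p) :
    ∃ P : Subgroup G, P.Normal ∧ Nat.card P = p := by
  have hcard : Nat.card (Q.map M.subtype) = p := by rw [card_map_of_injective M.subtype_injective, hQ]
  refine ⟨Q.map M.subtype, ⟨fun y hy g => ?_⟩, hcard⟩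
  obtain ⟨m, hm, rfl⟩ := hy
  let c : M →* M := (MulAut.conjNormal g).toMonoidHom
  have hc : Q.map c = Q := by
    refine eq_of_normal_prime Q (Q.map c) hQ ?_ fun h => hpp (h.trans (card_subgroup_dvd_card M))
    rw [card_map_of_injective (f := c) (MulAut.conjNormal g).injective, hQ]
  refine ⟨c m, hc.le ⟨m, hm, rfl⟩, ?_⟩
  show ((MulAut.conjNormal g m : M) : G) = g * m * g⁻¹
  rw [MulAut.conjNormal_apply]

/-- With a normal subgroup of index `p` centralized by an element of order `p`. -/
theorem normal_of_centralizes {p : ℕ} [hp : Fact p.Prime] (M : Subgroup G) (hidx : M.index = p)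
    (hpM : ¬ p ∣ Nat.card M) {x : G} (hx : orderOf x = p) (hle : M ≤ centralizer ({x} : Set G)) :
    ∃ P : Subgroup G, P.Normal ∧ Nat.card P = p := by
  refine ⟨zpowers x, normalizer_eq_top_iff.1 (eq_top_iff.2 ?_), by rw [Nat.card_zpowers, hx]⟩
  have hxC : zpowers x ≤ centralizer ({x} : Set G) := zpowers_le.2 (mem_centralizer_singleton_iff.2 rfl)
  have htop : centralizer ({x} : Set G) = ⊤ := by
    refine eq_top_of_card_eq _ (Nat.dvd_antisymm (card_subgroup_dvd_card _) ?_)
    rw [← M.index_mul_card, hidx, ← hx, ← Nat.card_zpowers]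
    refine Nat.Coprime.mul_dvd_of_dvd_of_dvd ?_ (card_dvd_of_le hxC) (card_dvd_of_le hle)
    rw [Nat.card_zpowers, hx]; exact hp.out.coprime_iff_not_dvd.2 hpM
  intro g _
  refine Subgroup.centralizer_le_normalizer _ ?_
  rw [zpowers_eq_closure, centralizer_closure, htop]
  trivial

/-- With a normal subgroup of index `p` and no prime power congruent to one. -/
theorem normal_of_index {p : ℕ} [hp : Fact p.Prime] (M : Subgroup G) [M.Normal] (hidx : M.index = p)
    (hpM : ¬ p ∣ Nat.card M) (h : ∀ s i : ℕ, s.Prime → 0 < i → s ^ i ∣ Nat.card M → s ^ i % p ≠ 1) :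
    ∃ P : Subgroup G, P.Normal ∧ Nat.card P = p := by
  obtain ⟨x, hx⟩ := exists_prime_orderOf_dvd_card' (G := G) p (hidx ▸ M.index_dvd_card)
  exact normal_of_centralizes M hidx hpM hx (le_centralizer_of_no_power hx M
    ((normalizer_eq_top_iff.2 (inferInstance : M.Normal)) ▸ mem_top x) hpM h)

end CfsgLib.SmallSimple.Degree6000
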