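import Cfsg.Agent.Lib.SmallSimple.Degree6000.Five616.Centralizer
import Cfsg.Agent.Lib.SmallSimple.Degree6000.Facts

/-!
The simple groups of order 5616.
-/

set_option autoImplicit false
set_option linter.style.haveILetI false

namespace CfsgLib.SmallSimple.Degree6000

open Subgroup CfsgLib CfsgLib.InvolChar Five616 CfsgLib.CharBlocks CfsgLib.CharNormal

universe u

variable {G : Type u} [Group G] [Finite G]

/-- A simple group of order 5616 is the special linear group of degree three over the field with three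
elements. -/
theorem nonempty_iso_5616 [IsSimpleGroup G] (h : Nat.card G = 5616) :
    Nonempty (Matrix.SpecialLinearGroup (Fin 3) (ZMod 3) ≃* G) := by
  classical
  haveI := Fintype.ofFinite G
  haveI : Fact (Nat.Prime 2) := ⟨Nat.prime_two⟩
  obtain ⟨D⟩ := exists_data h
  have H : Invols G := ⟨h, fun t ht => (invol_data h D ht).1, fun t s ht hs hts => card_cent_inf h D ht hs hts⟩
  obtain ⟨t, ht⟩ := exists_prime_orderOf_dvd_card' (G := G) 2 (by rw [h]; norm_num)
  obtain ⟨ψ, hψ⟩ := H.exists_loc' ht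
  exact GLTwoThree.nonempty_equiv_SL hψ (GLTwoThree.oneClass_simple hψ) h

/-- The primes thirteen and three divide degrees of a simple group of order 5616. -/
theorem degreePrimes_5616 [IsSimpleGroup G] (h : Nat.card G = 5616) :
    13 ∈ Cfsg.degreePrimes G ∧ 3 ∈ Cfsg.degreePrimes G := by
  classical
  haveI := Fintype.ofFinite G
  obtain ⟨D⟩ := exists_data h
  have hdeg : ∀ χ : Cfsg.IrrCharacter G, ∀ d : ℕ, (χ : G → ℂ) 1 = d → d ∈ Cfsg.charDegrees G := fun χ d hd =>
    ⟨χ, charDegree_eq (by exact_mod_cast hd)⟩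
  refine ⟨⟨by norm_num, ?_⟩, Nat.prime_three, 27, hdeg D.v 27 (by rw [D.deg_v]; norm_num), by norm_num⟩
  by_contra hno
  have hout : ∀ χ : Cfsg.IrrCharacter G, χ ≠ CfsgLib.Char.irrOne → χ ≠ D.u → χ ≠ D.v → χ ∉ D.W → False := by
    intro χ h1 h2 h3 h4
    obtain ⟨-, d, hd, h13⟩ := D.other χ h1 h2 h3 h4
    exact hno ⟨d, hdeg χ d hd, h13⟩
  have hsum := CfsgLib.Char.sum_degree_sq (G := G)
  rw [D.sum_split _ (fun χ h1 h2 h3 h4 => (hout χ h1 h2 h3 h4).elim),
    Finset.sum_congr rfl (g := fun _ => (256 : ℂ)) (fun w hw => by rw [D.deg_W w hw]; norm_num),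
    Finset.sum_const, D.card_W, D.deg_u, D.deg_v, CfsgLib.Char.irrOne_apply, h] at hsum
  norm_num at hsum

end CfsgLib.SmallSimple.Degree6000
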